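import Groth.Agent.OmegaLib.Sections
import Groth.Agent.Props12.FinLocFree
import Groth.Agent.Unram17Lib.RelDim
import Groth.Agent.FlatMorGeom.FormallyEtaleHom
import Mathlib.RingTheory.Smooth.StandardSmoothCotangent

/-!
# Sheaves of differentials of smooth morphisms are finite locally free
-/

set_option autoImplicit false
set_option backward.isDefEq.respectTransparency.types false
set_option backward.isDefEq.respectTransparency false
universe u

open CategoryTheory AlgebraicGeometry TopologicalSpace Opposite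

noncomputable section

namespace Groth.Agent.OmegaLib

variable {X Y : Scheme.{u}} {f : X ⟶ Y} {Ω' : X.Modules} {d : OmegaSh.Der f Ω'}

/-- A basis of the sections on an affine open trivialises a quasi-coherent module there. -/
theorem exists_iso_freeMod_affine (M : X.Modules) [Coh.IsQCoh M] {U : X.Opens} (hU : IsAffineOpen U)
    {n : ℕ} (b : Module.Basis (Fin n) Γ(X, U) Γ(M, U)) :
    Nonempty (M.restrict U.ι ≅ FlatMod.freeMod U.toScheme n) := by
  obtain ⟨b'⟩ := Props12.exists_basis_restrict_top M U b
  have : IsAffine U.toScheme := hU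
  exact Props12.exists_iso_freeMod_of_basis (M.restrict U.ι) b'

theorem exists_basis_kaehler (A B : Type u) [CommRing A] [CommRing B] [Algebra A B] (n : ℕ)
    [Algebra.IsStandardSmoothOfRelativeDimension n A B] :
    Nonempty (Module.Basis (Fin n) B (Ω[B⁄A])) := by
  have : Algebra.IsStandardSmooth A B :=
    Algebra.IsStandardSmoothOfRelativeDimension.isStandardSmooth n
  rcases subsingleton_or_nontrivial B with h | h
  · have := Module.subsingleton B (Ω[B⁄A])
    exact ⟨Module.Basis.ofRepr
      { toFun := 0, invFun := 0, map_add' := fun _ _ => Subsingleton.elim _ _,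
        map_smul' := fun _ _ => Subsingleton.elim _ _,
        left_inv := fun _ => Subsingleton.elim _ _, right_inv := fun _ => Subsingleton.elim _ _ }⟩
  · exact ⟨(Module.Free.chooseBasis B (Ω[B⁄A])).reindex
      ((Fintype.equivFinOfCardEq (Module.finrank_eq_card_chooseBasisIndex B (Ω[B⁄A])).symm).trans
        (finCongr (Module.finrank_eq_of_rank_eq
          (Algebra.IsStandardSmoothOfRelativeDimension.rank_kaehlerDifferential (R := A) (S := B) n))))⟩

/-- On a standard smooth chart `Ω'` is free of rank the fibre dimension. -/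
theorem exists_free_rank_fibreDimAt_of_isStandardSmooth (hd : OmegaSh.IsUniversal d) {W : Y.Opens}
    {V : X.Opens} (hW : IsAffineOpen W) (hV : IsAffineOpen V) (e : V ≤ f ⁻¹ᵁ W) {x : X} (hxV : x ∈ V)
    (h : (f.appLE W V e).hom.IsStandardSmooth) :
    ∃ (U : X.Opens) (n : ℕ), x ∈ U ∧ Nonempty (Ω'.restrict U.ι ≅ FlatMod.freeMod U.toScheme n) ∧
      FlatMor.fibreDimAt f x = (n : WithBot ℕ∞) := by
  obtain ⟨n, hn⟩ : ∃ n, RingHom.IsStandardSmoothOfRelativeDimension n (f.appLE W V e).hom := by
    letI := (f.appLE W V e).hom.toAlgebra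
    obtain ⟨ι, σ, _, _, ⟨P⟩⟩ := (h : Algebra.IsStandardSmooth Γ(Y, W) Γ(X, V)).out
    exact ⟨P.dimension, ⟨ι, σ, inferInstance, inferInstance, P, rfl⟩⟩
  refine ⟨V, n, hxV, ?_, ?_⟩
  · letI := (f.appLE W V e).hom.toAlgebra
    haveI : Algebra.IsStandardSmoothOfRelativeDimension n Γ(Y, W) Γ(X, V) := hn
    obtain ⟨ψ, -⟩ := exists_sections_equiv hd e hW hV
    obtain ⟨b⟩ := exists_basis_kaehler Γ(Y, W) Γ(X, V) n
    haveI := isQCoh_of_isUniversal hd
    exact exists_iso_freeMod_affine Ω' hV (b.map ψ)
  · haveI : IsAffine W.toScheme := hW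
    haveI : IsAffine V.toScheme := hV
    haveI : SmoothOfRelativeDimension n (f.resLE W V e) := by
      rw [HasRingHomProperty.iff_of_isAffine (P := @SmoothOfRelativeDimension n),
        (RingHom.locally_respectsIso RingHom.isStandardSmoothOfRelativeDimension_respectsIso).arrow_mk_iso_iff
          (arrowResLEAppIso f W V e)]
      exact RingHom.locally_of RingHom.isStandardSmoothOfRelativeDimension_respectsIso _ hn
    have h1 := Unram17Lib.fibreDimAt_eq_of_openImmersion V.ι W.ι (f.resLE_comp_ι e).symm
      (⟨x, hxV⟩ : V.toScheme)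
    rw [Unram17Lib.fibreDimAt_of_smoothOfRelativeDimension (f.resLE W V e) n] at h1
    exact h1

/-- Smooth morphisms: near each point `Ω'` is free of rank the fibre dimension. -/
theorem exists_free_rank_fibreDimAt (hd : OmegaSh.IsUniversal d) [Smooth f] (x : X) :
    ∃ (U : X.Opens) (n : ℕ), x ∈ U ∧ Nonempty (Ω'.restrict U.ι ≅ FlatMod.freeMod U.toScheme n) ∧
      FlatMor.fibreDimAt f x = (n : WithBot ℕ∞) := by
  obtain ⟨W, hW, V, hV, hxV, e, h⟩ := Smooth.exists_isStandardSmooth f x
  exact exists_free_rank_fibreDimAt_of_isStandardSmooth hd hW hV e hxV h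

/-- Formally smooth and locally of finite type: `Ω'` is finite locally free. -/
theorem isFinLocFree_of_isFormallySmoothHom (hd : OmegaSh.IsUniversal d)
    (hf : MoreMor.IsFormallySmoothHom f) [LocallyOfFiniteType f] : FlatMod.IsFinLocFree Ω' := by
  haveI := isQCoh_of_isUniversal hd
  have key : ∀ (W : Y.Opens) (U : X.Opens), IsAffineOpen W → IsAffineOpen U → U ≤ f ⁻¹ᵁ W →
      Module.Finite Γ(X, U) Γ(Ω', U) ∧ Module.Projective Γ(X, U) Γ(Ω', U) := by
    intro W U hW hU e
    have hft : (f.appLE W U e).hom.FiniteType := f.finiteType_appLE hW hU e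
    have hfs := FlatMorGeom.formallySmooth_appLE_of_isFormallySmoothHom f hf hU hW e
    letI := (f.appLE W U e).hom.toAlgebra
    haveI : Algebra.FiniteType Γ(Y, W) Γ(X, U) := hft
    haveI := hfs
    obtain ⟨ψ, -⟩ := exists_sections_equiv hd e hW hU
    exact ⟨Module.Finite.equiv ψ, Module.Projective.of_equiv ψ⟩
  choose W U hW hU hxU hUO hUW using fun x : X => exists_affine_pair f (Opens.mem_top x)
  refine Props12.isFinLocFree_of_isFP_of_free_stalks Ω'
    (EGA43.FPKernel.isFP_of_forall_exists_affine Ω' fun x => ?_) fun x => ?_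
  · obtain ⟨h1, h2⟩ := key (W x) (U x) (hW x) (hU x) (hUW x)
    exact ⟨U x, hU x, hxU x, Module.finitePresentation_of_projective _ _⟩
  · obtain ⟨h1, h2⟩ := key (W x) (U x) (hW x) (hU x) (hUW x)
    haveI : Module.Flat (X.presheaf.stalk x) (Ω'.presheaf.stalk x) :=
      Props12.flat_stalk_of_flat_sections Ω' (hU x) (hxU x)
    haveI : Module.Finite (X.presheaf.stalk x) (Ω'.presheaf.stalk x) := by
      haveI : CohB1.IsFP Ω' := EGA43.FPKernel.isFP_of_forall_exists_affine Ω' fun y =>
        ⟨U y, hU y, hxU y, by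
          obtain ⟨g1, g2⟩ := key (W y) (U y) (hW y) (hU y) (hUW y)
          exact Module.finitePresentation_of_projective _ _⟩
      exact Props12.finite_stalk_of_isFT Ω' (inferInstanceAs (SheafOfModules.IsFiniteType.{u} (R := X.ringCatSheaf) Ω')) x
    exact Module.free_of_flat_of_isLocalRing

end Groth.Agent.OmegaLib
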