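import Groth.Agent.MorProj.OmegaAffine
import Groth.Agent.PrinLib.StalkMod

/-!
# The derivation into the conormal sheaf of the diagonal is universal
-/

set_option autoImplicit false
set_option linter.style.haveILetI false
set_option backward.isDefEq.respectTransparency.types false
set_option backward.isDefEq.respectTransparency false
universe u

open CategoryTheory CategoryTheory.Limits AlgebraicGeometry TopologicalSpace Opposite

noncomputable section

namespace Groth.Agent.OmegaLib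

variable {X Y : Scheme.{u}} (f : X ⟶ Y) [QuasiSeparated f]

/-- On affine opens the sections of the conormal sheaf of the diagonal are the differentials. -/
theorem exists_omega_sections_equiv {W : Y.Opens} {U : X.Opens} (e : U ≤ f ⁻¹ᵁ W) (hW : IsAffineOpen W)
    (hU : IsAffineOpen U) :
    letI := (f.appLE W U e).hom.toAlgebra
    ∃ ψ : Ω[Γ(X, U)⁄Γ(Y, W)] ≃ₗ[Γ(X, U)] Γ(Omega.sheaf f, U),
      ∀ b, ψ (KaehlerDifferential.D Γ(Y, W) Γ(X, U) b) = (OmegaSh.dOmega f).app U b := by
  letI := (f.appLE W U e).hom.toAlgebra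
  haveI := MorProj.isIso_toSect f hU hW e
  exact ⟨(asIso (OmAff.toSect f W U e)).toLinearEquiv, fun b => OmAff.toSect_d f W U e b⟩

/-- The stalk of a sheaf of differentials is the module of differentials of the local ring. -/
theorem exists_omega_stalk_equiv {W : Y.Opens} (hW : IsAffineOpen W) (x : X)
    (hxW : f x ∈ W) [Algebra Γ(Y, W) (X.presheaf.stalk x)]
    (hal : ∀ r, algebraMap Γ(Y, W) (X.presheaf.stalk x) r = f.stalkMap x (Y.presheaf.germ W (f x) hxW r)) :
    ∃ E : Ω[X.presheaf.stalk x⁄Γ(Y, W)] ≃ₗ[X.presheaf.stalk x] (DerSch.stalkFunctor X x).obj (Omega.sheaf f),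
      ∀ (U : X.Opens) (hx : x ∈ U) (s : Γ(X, U)),
        E (KaehlerDifferential.D Γ(Y, W) _ (X.presheaf.germ U x hx s)) = gm (Omega.sheaf f) U x hx ((OmegaSh.dOmega f).app U s) := by
  let O := X.presheaf.stalk x
  let M : Type u := (DerSch.stalkFunctor X x).obj (Omega.sheaf f)
  obtain ⟨δ₀, hδ, hmul⟩ := exists_stalkDer (OmegaSh.dOmega f) x
  letI : Module Γ(Y, W) M := Module.compHom M (algebraMap Γ(Y, W) O)
  haveI : IsScalarTower Γ(Y, W) O M := IsScalarTower.of_algebraMap_smul fun _ _ => rfl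
  have hzero : ∀ r, δ₀ (algebraMap Γ(Y, W) O r) = 0 := by
    intro r
    rw [hal, Scheme.Hom.germ_stalkMap_apply, hδ, app_app, gm_zero]
  let δ : Derivation Γ(Y, W) O M := Derivation.mk'
    { toFun := δ₀
      map_add' := map_add δ₀
      map_smul' := fun r b => by
        rw [Algebra.smul_def, hmul, hzero, smul_zero, add_zero, RingHom.id_apply]
        rfl }
    hmul
  let L : Ω[O⁄Γ(Y, W)] →ₗ[O] M := δ.liftKaehlerDifferential
  have hL : ∀ b : O, L (KaehlerDifferential.D Γ(Y, W) O b) = δ₀ b := δ.liftKaehlerDifferential_comp_D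
  -- an affine neighbourhood
  obtain ⟨U, hU, hxU, hUW⟩ := Opens.isBasis_iff_nbhd.mp X.isBasis_affineOpens (show x ∈ f ⁻¹ᵁ W from hxW)
  letI := (f.appLE W U hUW).hom.toAlgebra
  obtain ⟨ψ, hψ⟩ := exists_omega_sections_equiv f hUW hW hU
  letI : Algebra Γ(X, U) O := (X.presheaf.germ U x hxU).hom.toAlgebra
  letI : Module Γ(X, U) M := Module.compHom M (X.presheaf.germ U x hxU).hom
  haveI : IsScalarTower Γ(X, U) O M := IsScalarTower.of_algebraMap_smul fun _ _ => rfl
  haveI : IsScalarTower Γ(Y, W) Γ(X, U) O := IsScalarTower.of_algebraMap_eq fun r => by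
    change _ = X.presheaf.germ U x hxU (f.appLE W U hUW r)
    rw [hal, Scheme.Hom.germ_stalkMap_apply, Scheme.Hom.appLE, CommRingCat.comp_apply]
    exact (X.presheaf.germ_res_apply _ x hxU _).symm
  haveI : IsLocalization (hU.primeIdealOf ⟨x, hxU⟩).asIdeal.primeCompl O := hU.isLocalization_stalk ⟨x, hxU⟩
  haveI := MorProj.isQCoh_omega f
  let gl : Γ((Omega.sheaf f), U) →ₗ[Γ(X, U)] M :=
    { toFun := gm (Omega.sheaf f) U x hxU
      map_add' := gm_add (Omega.sheaf f) hxU
      map_smul' := fun r s => gm_smul (Omega.sheaf f) hxU r s }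
  haveI : IsLocalizedModule (hU.primeIdealOf ⟨x, hxU⟩).asIdeal.primeCompl gl :=
    EGA43.QcohFP.isLocalizedModule_germ (Omega.sheaf f) hU hxU gl fun _ => rfl
  let μ := KaehlerDifferential.map Γ(Y, W) Γ(Y, W) Γ(X, U) O
  haveI : IsLocalizedModule (hU.primeIdealOf ⟨x, hxU⟩).asIdeal.primeCompl μ :=
    KaehlerDifferential.isLocalizedModule_map _ _ _ _
  haveI : IsLocalizedModule (hU.primeIdealOf ⟨x, hxU⟩).asIdeal.primeCompl (gl ∘ₗ ψ.toLinearMap) :=
    IsLocalizedModule.of_linearEquiv_right _ _ _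
  let e := IsLocalizedModule.linearEquiv (hU.primeIdealOf ⟨x, hxU⟩).asIdeal.primeCompl μ
    (gl ∘ₗ ψ.toLinearMap)
  have hLe : L.restrictScalars Γ(X, U) = e.toLinearMap := by
    refine IsLocalizedModule.ext (hU.primeIdealOf ⟨x, hxU⟩).asIdeal.primeCompl μ
      (IsLocalizedModule.map_units (gl ∘ₗ ψ.toLinearMap)) ?_
    refine LinearMap.ext_on_range (KaehlerDifferential.span_range_derivation Γ(Y, W) Γ(X, U)) fun b => ?_
    rw [LinearMap.comp_apply, LinearMap.comp_apply, LinearEquiv.coe_coe, IsLocalizedModule.linearEquiv_apply]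
    show L (μ _) = gm (Omega.sheaf f) U x hxU (ψ _)
    rw [KaehlerDifferential.map_D, hL, hψ]
    exact hδ U hxU b
  have hbij : Function.Bijective L := by
    have h1 : (L : Ω[O⁄Γ(Y, W)] → M) = e := congrArg DFunLike.coe hLe
    rw [h1]; exact e.bijective
  exact ⟨LinearEquiv.ofBijective L hbij, fun V hV s => (hL _).trans (hδ V hV s)⟩

theorem exists_omega_stalk_lift {F : X.Modules} (D : OmegaSh.Der f F) (x : X) :
    ∃ L : (DerSch.stalkFunctor X x).obj (Omega.sheaf f) →ₗ[X.presheaf.stalk x] (DerSch.stalkFunctor X x).obj F,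
      ∀ (U : X.Opens) (hx : x ∈ U) (s : Γ(X, U)),
        L (gm (Omega.sheaf f) U x hx ((OmegaSh.dOmega f).app U s)) = gm F U x hx (D.app U s) := by
  obtain ⟨W, hW, hxW, -⟩ := Opens.isBasis_iff_nbhd.mp Y.isBasis_affineOpens (Opens.mem_top (f x))
  letI : Algebra Γ(Y, W) (X.presheaf.stalk x) := (Y.presheaf.germ W (f x) hxW ≫ f.stalkMap x).hom.toAlgebra
  obtain ⟨E, hE⟩ := exists_omega_stalk_equiv f hW x hxW fun _ => rfl
  let O := X.presheaf.stalk x
  let M : Type u := (DerSch.stalkFunctor X x).obj F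
  obtain ⟨δ₀, hδ, hmul⟩ := exists_stalkDer D x
  letI : Module Γ(Y, W) M := Module.compHom M (algebraMap Γ(Y, W) O)
  haveI : IsScalarTower Γ(Y, W) O M := IsScalarTower.of_algebraMap_smul fun _ _ => rfl
  have hzero : ∀ r, δ₀ (algebraMap Γ(Y, W) O r) = 0 := by
    intro r
    show δ₀ (f.stalkMap x (Y.presheaf.germ W (f x) hxW r)) = 0
    rw [Scheme.Hom.germ_stalkMap_apply, hδ, app_app, gm_zero]
  let δ : Derivation Γ(Y, W) O M := Derivation.mk'
    { toFun := δ₀
      map_add' := map_add δ₀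
      map_smul' := fun r b => by
        rw [Algebra.smul_def, hmul, hzero, smul_zero, add_zero, RingHom.id_apply]
        rfl }
    hmul
  refine ⟨δ.liftKaehlerDifferential ∘ₗ E.symm.toLinearMap, fun U hx s => ?_⟩
  show δ.liftKaehlerDifferential (E.symm _) = _
  rw [← hE U hx s, LinearEquiv.symm_apply_apply]
  exact (δ.liftKaehlerDifferential_comp_D _).trans (hδ U hx s)

theorem exists_res_mem_span_dOmega {U : X.Opens} (s : Γ(Omega.sheaf f, U)) {x : X} (hx : x ∈ U) :
    ∃ (V : X.Opens) (h : V ≤ U), x ∈ V ∧ (Omega.sheaf f).presheaf.map (homOfLE h).op s ∈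
      Submodule.span Γ(X, V) (Set.range ((OmegaSh.dOmega f).app V)) := by
  obtain ⟨W, hW, hxW, -⟩ := Opens.isBasis_iff_nbhd.mp Y.isBasis_affineOpens (Opens.mem_top (f x))
  obtain ⟨V, hV, hxV, hle⟩ := Opens.isBasis_iff_nbhd.mp X.isBasis_affineOpens
    (show x ∈ U ⊓ f ⁻¹ᵁ W from ⟨hx, hxW⟩)
  refine ⟨V, hle.trans inf_le_left, hxV, ?_⟩
  letI := (f.appLE W V (hle.trans inf_le_right)).hom.toAlgebra
  obtain ⟨ψ, hψ⟩ := exists_omega_sections_equiv f (hle.trans inf_le_right) hW hV
  rw [show Set.range ((OmegaSh.dOmega f).app V) =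
      ψ.toLinearMap '' Set.range (KaehlerDifferential.D Γ(Y, W) Γ(X, V)) by
    rw [← Set.range_comp]; exact congrArg Set.range (funext fun b => (hψ b).symm),
    ← Submodule.map_span, KaehlerDifferential.span_range_derivation, Submodule.map_top, LinearEquiv.range]
  trivial

theorem hom_ext_dOmega {F : X.Modules} {α α' : Omega.sheaf f ⟶ F}
    (h : ∀ (U : X.Opens) (s : Γ(X, U)),
      α.app U ((OmegaSh.dOmega f).app U s) = α'.app U ((OmegaSh.dOmega f).app U s)) : α = α' := by
  refine Scheme.Modules.hom_ext _ _ fun U => ?_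
  ext s
  refine section_ext fun x hx => ?_
  obtain ⟨V, hle, hxV, hs⟩ := exists_res_mem_span_dOmega f s hx
  refine ⟨V, hle, hxV, ?_⟩
  have key : ∀ v ∈ Submodule.span Γ(X, V) (Set.range ((OmegaSh.dOmega f).app V)), α.app V v = α'.app V v := by
    intro v hv
    induction hv using Submodule.span_induction with
    | mem v hv => obtain ⟨b, rfl⟩ := hv; exact h V b
    | zero => rw [map_zero, map_zero]
    | add a b _ _ ha hb => rw [map_add, map_add, ha, hb]
    | smul a v _ hv => rw [Scheme.Modules.Hom.app_smul, Scheme.Modules.Hom.app_smul, hv]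
  refine ((congr($(α.mapPresheaf.naturality (homOfLE hle).op) s)).symm.trans ?_).trans
    (congr($(α'.mapPresheaf.naturality (homOfLE hle).op) s))
  exact key _ hs

/-- The derivation into the conormal sheaf of the diagonal is universal. -/
theorem isUniversal_dOmega : OmegaSh.IsUniversal (OmegaSh.dOmega f) := by
  intro F D
  choose L hL using fun x => exists_omega_stalk_lift f D x
  obtain ⟨φ, hφ⟩ := PrinLib.exists_hom_of_stalks L fun U s x hx => by
    obtain ⟨V, hle, hxV, hs⟩ := exists_res_mem_span_dOmega f s hx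
    refine ⟨V, hle, hxV, ?_⟩
    suffices key : ∀ v ∈ Submodule.span Γ(X, V) (Set.range ((OmegaSh.dOmega f).app V)), ∃ t : Γ(F, V),
        ∀ (y : X) (hy : y ∈ V), L y (gm (Omega.sheaf f) V y hy v) = gm F V y hy t by
      obtain ⟨t, ht⟩ := key _ hs
      refine ⟨t, fun y hy => ?_⟩
      rw [← gm_res (Omega.sheaf f) (hle hy) hle hy s]
      exact ht y hy
    intro v hv
    induction hv using Submodule.span_induction with
    | mem v hv => obtain ⟨b, rfl⟩ := hv; exact ⟨D.app V b, fun y hy => hL y V hy b⟩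
    | zero => exact ⟨0, fun y hy => by rw [gm_zero, gm_zero, map_zero]⟩
    | add a b _ _ ha hb =>
      obtain ⟨t, ht⟩ := ha
      obtain ⟨t', ht'⟩ := hb
      exact ⟨t + t', fun y hy => by rw [gm_add, gm_add, map_add, ht, ht']⟩
    | smul a v _ hv =>
      obtain ⟨t, ht⟩ := hv
      exact ⟨a • t, fun y hy => by rw [gm_smul, gm_smul, map_smul, ht]⟩
  have hφd : ∀ (U : X.Opens) (s : Γ(X, U)), φ.app U ((OmegaSh.dOmega f).app U s) = D.app U s := fun U s =>
    TopCat.Presheaf.section_ext ⟨F.presheaf, F.isSheaf⟩ U _ _ fun y hy =>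
      (hφ U _ y hy).trans (hL y U hy s)
  refine ⟨φ, der_ext fun U s => hφd U s, fun α hα => hom_ext_dOmega f fun U s => ?_⟩
  rw [hφd]
  exact congrArg (fun E : OmegaSh.Der f F => E.app U s) hα

end Groth.Agent.OmegaLib
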