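import Groth.Agent.OmegaLib.StalkCompat
import Mathlib.Algebra.Homology.ShortComplex.Abelian

/-!
# Stalks of differentials over the local ring of the base; exactness on stalks
-/

set_option autoImplicit false
set_option backward.isDefEq.respectTransparency.types false
set_option backward.isDefEq.respectTransparency false
set_option linter.style.haveILetI false
universe u

open CategoryTheory CategoryTheory.Limits AlgebraicGeometry TopologicalSpace Opposite

noncomputable section

namespace Groth.Agent.OmegaLib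

variable {X Y : Scheme.{u}} {f : X ⟶ Y} {Ω' : X.Modules} {d : OmegaSh.Der f Ω'}

/-- The stalk of a sheaf of differentials is the module of differentials of the local homomorphism. -/
theorem exists_stalk_equiv_local (hd : OmegaSh.IsUniversal d) (x : X) :
    letI := (f.stalkMap x).hom.toAlgebra
    ∃ E : Ω[X.presheaf.stalk x⁄Y.presheaf.stalk (f x)] ≃ₗ[X.presheaf.stalk x] (DerSch.stalkFunctor X x).obj Ω',
      ∀ (U : X.Opens) (hx : x ∈ U) (s : Γ(X, U)),
        E (KaehlerDifferential.D (Y.presheaf.stalk (f x)) _ (X.presheaf.germ U x hx s)) =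
          gm Ω' U x hx (d.app U s) := by
  letI := (f.stalkMap x).hom.toAlgebra
  obtain ⟨W, hW, hxW, -⟩ := Opens.isBasis_iff_nbhd.mp Y.isBasis_affineOpens (Opens.mem_top (f x))
  letI : Algebra Γ(Y, W) (Y.presheaf.stalk (f x)) := (Y.presheaf.germ W (f x) hxW).hom.toAlgebra
  letI : Algebra Γ(Y, W) (X.presheaf.stalk x) := (Y.presheaf.germ W (f x) hxW ≫ f.stalkMap x).hom.toAlgebra
  haveI : IsScalarTower Γ(Y, W) (Y.presheaf.stalk (f x)) (X.presheaf.stalk x) :=
    IsScalarTower.of_algebraMap_eq fun _ => rfl
  haveI := hW.isLocalization_stalk ⟨f x, hxW⟩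
  haveI : Algebra.FormallyUnramified Γ(Y, W) (Y.presheaf.stalk (f x)) :=
    .of_isLocalization (hW.primeIdealOf ⟨f x, hxW⟩).asIdeal.primeCompl
  obtain ⟨E₀, hE₀⟩ := exists_stalk_equiv hd hW x hxW fun _ => rfl
  let μ := KaehlerDifferential.map Γ(Y, W) (Y.presheaf.stalk (f x)) (X.presheaf.stalk x) (X.presheaf.stalk x)
  have hμ : Function.Bijective μ := by
    refine ⟨?_, KaehlerDifferential.map_surjective _ _ _⟩
    rw [injective_iff_map_eq_zero]
    intro z hz
    obtain ⟨t, rfl⟩ := (KaehlerDifferential.exact_mapBaseChange_map Γ(Y, W) (Y.presheaf.stalk (f x))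
      (X.presheaf.stalk x) z).1 hz
    rw [Subsingleton.elim t 0, map_zero]
  refine ⟨(LinearEquiv.ofBijective μ hμ).symm.trans E₀, fun U hx s => ?_⟩
  rw [LinearEquiv.trans_apply, ← hE₀ U hx s]
  congr 1
  rw [LinearEquiv.symm_apply_eq]
  exact (KaehlerDifferential.map_D Γ(Y, W) (Y.presheaf.stalk (f x)) (X.presheaf.stalk x)
    (X.presheaf.stalk x) _).symm

/-- The unit identification `M ≅ 𝟙^* M` pulls sections back. -/
theorem pullbackId_inv_app (M : X.Modules) (U : X.Opens) (s : Γ(M, U)) :
    ((Scheme.Modules.pullbackId X).inv.app M).app U s = OmegaSh.pullSect (𝟙 X) M U s := by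
  have h := unit_conjugateEquiv .id (Scheme.Modules.pullbackPushforwardAdjunction (𝟙 X))
    (Scheme.Modules.pullbackId X).hom M
  rw [Scheme.Modules.conjugateEquiv_pullbackId_hom] at h
  have h2 : s = ((Scheme.Modules.pullbackId X).hom.app M).app U (OmegaSh.pullSect (𝟙 X) M U s) :=
    congr($(h).app U s)
  conv_lhs => rw [h2]
  rw [← ConcreteCategory.comp_apply, ← Scheme.Modules.Hom.comp_app, Iso.hom_inv_id_app]
  rfl

/-- Exactness is stalkwise. -/
theorem exact_of_stalks (S : ShortComplex X.Modules)
    (h : ∀ x : X, (S.map (DerSch.stalkFunctor X x)).Exact) : S.Exact := by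
  rw [ShortComplex.exact_iff_isZero_homology]
  refine ModStalk.isZero_of_stalks fun x => ?_
  exact IsZero.of_iso ((ShortComplex.exact_iff_isZero_homology _).1 (h x))
    (S.mapHomologyIso (DerSch.stalkFunctor X x)).symm

/-- A map surjective on all stalks is an epimorphism. -/
theorem epi_of_stalks_surjective {M N : X.Modules} (φ : M ⟶ N)
    (h : ∀ x, Function.Surjective ((DerSch.stalkFunctor X x).map φ)) : Epi φ :=
  Preadditive.epi_of_isZero_cokernel _ (ModStalk.isZero_of_stalks fun x => by
    haveI : Epi ((DerSch.stalkFunctor X x).map φ) := (ModuleCat.epi_iff_surjective _).2 (h x)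
    exact IsZero.of_iso (isZero_cokernel_of_epi ((DerSch.stalkFunctor X x).map φ))
      (PreservesCokernel.iso (DerSch.stalkFunctor X x) φ))

/-- Image equals kernel from elementwise exactness on stalks. -/
theorem image_eq_kernel_of_stalks {A B C : X.Modules} (a : A ⟶ B) (b : B ⟶ C)
    (h : ∀ x : X, Function.Exact ((DerSch.stalkFunctor X x).map a) ((DerSch.stalkFunctor X x).map b)) :
    imageSubobject a = kernelSubobject b := by
  have hz : a ≫ b = 0 := by
    refine Scheme.Modules.hom_ext _ _ fun U => ?_
    ext s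
    refine TopCat.Presheaf.section_ext ⟨C.presheaf, C.isSheaf⟩ U _ _ fun x hx => ?_
    have h1 := (h x).apply_apply_eq_zero (gm A U x hx s)
    rw [map_gm, map_gm] at h1
    exact h1.trans (gm_zero C hx).symm
  refine (ShortComplex.exact_iff_image_eq_kernel (S := ShortComplex.mk a b hz)).1
    (exact_of_stalks _ fun x => ?_)
  exact (ShortComplex.moduleCat_exact_iff _).2 fun y hy => ((h x) y).1 hy

end Groth.Agent.OmegaLib
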