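import Groth.Agent.OmegaLib.Stalk
import Groth.Agent.DCat.PullTensor
import Groth.Agent.FlatMorGeom.FormallySmoothHom
import Mathlib.RingTheory.Smooth.Basic
import Mathlib.RingTheory.Kaehler.TensorProduct

/-!
# The map of differentials on stalks

For `f : X ⟶ Y` over `S` and the compatible map `c : f^* Ω_{Y/S} ⟶ Ω_{X/S}`, the stalk of `c` at `x` is
`B ⊗[A] Ω[A⁄R] → Ω[B⁄R]` with `A, B` the local rings and `R` the ring of an affine open of `S`.
-/

set_option autoImplicit false
set_option backward.isDefEq.respectTransparency.types false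
set_option backward.isDefEq.respectTransparency false
universe u

open CategoryTheory AlgebraicGeometry TopologicalSpace Opposite
open scoped TensorProduct

noncomputable section

namespace Groth.Agent.OmegaLib

variable {X Y S : Scheme.{u}}

/-- The stalk of a pullback is the base change of the stalk. -/
theorem exists_pullback_stalk_equiv (f : X ⟶ Y) (M : Y.Modules) (x : X) :
    letI := (f.stalkMap x).hom.toAlgebra
    ∃ E : X.presheaf.stalk x ⊗[Y.presheaf.stalk (f x)] ((DerSch.stalkFunctor Y (f x)).obj M) ≃ₗ[X.presheaf.stalk x]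
        (DerSch.stalkFunctor X x).obj ((Scheme.Modules.pullback f).obj M),
      ∀ (U : Y.Opens) (hx : f x ∈ U) (s : Γ(M, U)),
        E (1 ⊗ₜ gm M U (f x) hx s) = gm _ (f ⁻¹ᵁ U) x hx (OmegaSh.pullSect f M U s) := by
  letI := (f.stalkMap x).hom.toAlgebra
  let E : X.presheaf.stalk x ⊗[Y.presheaf.stalk (f x)] ((DerSch.stalkFunctor Y (f x)).obj M) ≃ₗ[X.presheaf.stalk x]
        (DerSch.stalkFunctor X x).obj ((Scheme.Modules.pullback f).obj M) :=
    ((ModStalk.pullbackStalkIso f x).app M).symm.toLinearEquiv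
  refine ⟨E, fun U hx s => ?_⟩
  apply E.symm.injective
  rw [E.symm_apply_apply]
  exact (DCat.PullTensor.pullbackStalk_germ f x M U hx s).symm

/-- Two linear maps out of differentials of a local ring agreeing on germs agree. -/
theorem kaehler_stalk_hom_ext {x : X} {R : Type u} [CommRing R] [Algebra R (X.presheaf.stalk x)]
    {M : Type u} [AddCommGroup M] [Module (X.presheaf.stalk x) M]
    {u v : Ω[X.presheaf.stalk x⁄R] →ₗ[X.presheaf.stalk x] M}
    (h : ∀ (U : X.Opens) (hx : x ∈ U) (s : Γ(X, U)),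
      u (KaehlerDifferential.D R _ (X.presheaf.germ U x hx s)) =
        v (KaehlerDifferential.D R _ (X.presheaf.germ U x hx s))) : u = v := by
  refine LinearMap.ext_on_range (KaehlerDifferential.span_range_derivation R _) fun b => ?_
  obtain ⟨U, hx, s, rfl⟩ := X.presheaf.exists_germ_eq (x := x) b
  exact h U hx s

/-- The stalk of the compatible map of differentials is `mapBaseChange`. -/
theorem exists_stalk_compat {f : X ⟶ Y} {g : Y ⟶ S} {h : X ⟶ S}
    {ΩY : Y.Modules} {dY : OmegaSh.Der g ΩY} (hY : OmegaSh.IsUniversal dY)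
    {ΩX : X.Modules} {dX : OmegaSh.Der h ΩX}
    {c : (Scheme.Modules.pullback f).obj ΩY ⟶ ΩX} (hc : OmegaSh.IsDiffCompat f dY dX c)
    {T : S.Opens} (hT : IsAffineOpen T) (x : X) (hxT : g (f x) ∈ T) :
    letI := (f.stalkMap x).hom.toAlgebra
    ∀ [Algebra Γ(S, T) (Y.presheaf.stalk (f x))] [Algebra Γ(S, T) (X.presheaf.stalk x)]
      [IsScalarTower Γ(S, T) (Y.presheaf.stalk (f x)) (X.presheaf.stalk x)]
      (_ : ∀ r, algebraMap Γ(S, T) (Y.presheaf.stalk (f x)) r =
        g.stalkMap (f x) (S.presheaf.germ T (g (f x)) hxT r))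
      (E₂ : Ω[X.presheaf.stalk x⁄Γ(S, T)] ≃ₗ[X.presheaf.stalk x] (DerSch.stalkFunctor X x).obj ΩX)
      (_ : ∀ (U : X.Opens) (hx : x ∈ U) (s : Γ(X, U)),
        E₂ (KaehlerDifferential.D Γ(S, T) _ (X.presheaf.germ U x hx s)) = gm ΩX U x hx (dX.app U s)),
      ∃ E₁ : X.presheaf.stalk x ⊗[Y.presheaf.stalk (f x)] Ω[Y.presheaf.stalk (f x)⁄Γ(S, T)]
          ≃ₗ[X.presheaf.stalk x] (DerSch.stalkFunctor X x).obj ((Scheme.Modules.pullback f).obj ΩY),
        ∀ t, (DerSch.stalkFunctor X x).map c (E₁ t) =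
          E₂ (KaehlerDifferential.mapBaseChange Γ(S, T) (Y.presheaf.stalk (f x)) (X.presheaf.stalk x) t) := by
  letI := (f.stalkMap x).hom.toAlgebra
  intro _ _ _ halA E₂ hE₂
  obtain ⟨EY, hEY⟩ := exists_stalk_equiv hY hT (f x) hxT halA
  obtain ⟨E, hE⟩ := exists_pullback_stalk_equiv f ΩY x
  refine ⟨(EY.baseChange (Y.presheaf.stalk (f x)) (X.presheaf.stalk x)).trans E, fun t => ?_⟩
  let cl : (DerSch.stalkFunctor X x).obj ((Scheme.Modules.pullback f).obj ΩY) →ₗ[X.presheaf.stalk x]
      (DerSch.stalkFunctor X x).obj ΩX := ((DerSch.stalkFunctor X x).map c).hom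
  let L₁ := (cl ∘ₗ E.toLinearMap) ∘ₗ (EY.baseChange (Y.presheaf.stalk (f x)) (X.presheaf.stalk x)).toLinearMap
  let L₂ := E₂.toLinearMap ∘ₗ KaehlerDifferential.mapBaseChange Γ(S, T) (Y.presheaf.stalk (f x)) (X.presheaf.stalk x)
  have key : ∀ (b : X.presheaf.stalk x) (y : Ω[Y.presheaf.stalk (f x)⁄Γ(S, T)]), L₁ (b ⊗ₜ y) = L₂ (b ⊗ₜ y) := by
    intro b y
    have hy : y ∈ Submodule.span (Y.presheaf.stalk (f x))
        (Set.range (KaehlerDifferential.D Γ(S, T) (Y.presheaf.stalk (f x)))) := by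
      rw [KaehlerDifferential.span_range_derivation]; trivial
    induction hy using Submodule.span_induction generalizing b with
    | mem y hy =>
      obtain ⟨a, rfl⟩ := hy
      rw [show (b ⊗ₜ[Y.presheaf.stalk (f x)] KaehlerDifferential.D Γ(S, T) (Y.presheaf.stalk (f x)) a) =
        b • ((1 : X.presheaf.stalk x) ⊗ₜ[Y.presheaf.stalk (f x)] KaehlerDifferential.D Γ(S, T) (Y.presheaf.stalk (f x)) a)
        by rw [TensorProduct.smul_tmul', smul_eq_mul, mul_one], map_smul, map_smul]
      congr 1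
      obtain ⟨U, hx, s, rfl⟩ := Y.presheaf.exists_germ_eq (x := f x) a
      simp only [L₁, L₂, LinearMap.comp_apply, LinearEquiv.coe_coe, LinearEquiv.baseChange_tmul,
        KaehlerDifferential.mapBaseChange_tmul, one_smul, KaehlerDifferential.map_D, hEY, hE]
      rw [show algebraMap (Y.presheaf.stalk (f x)) (X.presheaf.stalk x) (Y.presheaf.germ U (f x) hx s) =
        X.presheaf.germ (f ⁻¹ᵁ U) x hx (f.app U s) from Scheme.Hom.germ_stalkMap_apply f U x hx s, hE₂]
      show (DerSch.stalkFunctor X x).map c _ = _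
      rw [map_gm, hc]
    | zero => simp only [TensorProduct.tmul_zero, map_zero]
    | add y z _ _ hy hz => simp only [TensorProduct.tmul_add, map_add, hy b, hz b]
    | smul a y _ hy => rw [← TensorProduct.smul_tmul]; exact hy _
  induction t using TensorProduct.induction_on with
  | zero => exact (map_zero L₁).trans (map_zero L₂).symm
  | tmul b y => exact key b y
  | add u v hu hv => exact (map_add L₁ u v).trans ((congrArg₂ (· + ·) hu hv).trans (map_add L₂ u v).symm)

open CategoryTheory.Limits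

/-- A map injective on all stalks is a monomorphism. -/
theorem mono_of_stalks_injective {M N : X.Modules} (φ : M ⟶ N)
    (h : ∀ x, Function.Injective ((DerSch.stalkFunctor X x).map φ)) : Mono φ :=
  Preadditive.mono_of_isZero_kernel _ (ModStalk.isZero_of_stalks fun x => by
    haveI : Mono ((DerSch.stalkFunctor X x).map φ) := (ModuleCat.mono_iff_injective _).2 (h x)
    exact IsZero.of_iso (isZero_kernel_of_mono ((DerSch.stalkFunctor X x).map φ))
      (PreservesKernel.iso (DerSch.stalkFunctor X x) φ))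

/-- The local homomorphism of a formally smooth morphism is formally smooth. -/
theorem formallySmooth_stalkMap {f : X ⟶ Y} (hf : MoreMor.IsFormallySmoothHom f) (x : X) :
    letI := (f.stalkMap x).hom.toAlgebra
    Algebra.FormallySmooth (Y.presheaf.stalk (f x)) (X.presheaf.stalk x) := by
  letI := (f.stalkMap x).hom.toAlgebra
  obtain ⟨V, hV, hxV, -⟩ := Opens.isBasis_iff_nbhd.mp Y.isBasis_affineOpens (Opens.mem_top (f x))
  obtain ⟨U, hU, hxU, hUV⟩ := Opens.isBasis_iff_nbhd.mp X.isBasis_affineOpens (show x ∈ f ⁻¹ᵁ V from hxV)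
  letI := (f.appLE V U hUV).hom.toAlgebra
  haveI : Algebra.FormallySmooth Γ(Y, V) Γ(X, U) :=
    FlatMorGeom.formallySmooth_appLE_of_isFormallySmoothHom f hf hU hV hUV
  letI : Algebra Γ(Y, V) (Y.presheaf.stalk (f x)) := (Y.presheaf.germ V (f x) hxV).hom.toAlgebra
  letI : Algebra Γ(X, U) (X.presheaf.stalk x) := (X.presheaf.germ U x hxU).hom.toAlgebra
  letI : Algebra Γ(Y, V) (X.presheaf.stalk x) :=
    (Y.presheaf.germ V (f x) hxV ≫ f.stalkMap x).hom.toAlgebra
  haveI : IsScalarTower Γ(Y, V) (Y.presheaf.stalk (f x)) (X.presheaf.stalk x) :=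
    IsScalarTower.of_algebraMap_eq fun _ => rfl
  haveI : IsScalarTower Γ(Y, V) Γ(X, U) (X.presheaf.stalk x) := IsScalarTower.of_algebraMap_eq fun r => by
    change f.stalkMap x (Y.presheaf.germ V (f x) hxV r) = X.presheaf.germ U x hxU (f.appLE V U hUV r)
    rw [Scheme.Hom.germ_stalkMap_apply, Scheme.Hom.appLE, CommRingCat.comp_apply]
    exact (X.presheaf.germ_res_apply _ x hxU _).symm
  haveI := hU.isLocalization_stalk ⟨x, hxU⟩
  haveI := hV.isLocalization_stalk ⟨f x, hxV⟩
  haveI : Algebra.FormallyEtale Γ(X, U) (X.presheaf.stalk x) :=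
    .of_isLocalization (hU.primeIdealOf ⟨x, hxU⟩).asIdeal.primeCompl
  haveI : Algebra.FormallySmooth Γ(Y, V) (X.presheaf.stalk x) := .comp _ Γ(X, U) _
  haveI : Algebra.FormallyEtale Γ(Y, V) (Y.presheaf.stalk (f x)) :=
    .of_isLocalization (hV.primeIdealOf ⟨f x, hxV⟩).asIdeal.primeCompl
  exact Algebra.FormallySmooth.of_restrictScalars Γ(Y, V) _ _

/-- For a formally smooth extension the map of differentials is injective. -/
theorem mapBaseChange_injective (R A B : Type u) [CommRing R] [CommRing A] [CommRing B] [Algebra R A]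
    [Algebra R B] [Algebra A B] [IsScalarTower R A B] [Algebra.FormallySmooth A B] :
    Function.Injective (KaehlerDifferential.mapBaseChange R A B) := by
  rw [injective_iff_map_eq_zero]
  intro t ht
  obtain ⟨z, rfl⟩ := (Algebra.H1Cotangent.exact_δ_mapBaseChange R A B t).1 ht
  rw [Subsingleton.elim z 0, map_zero]

end Groth.Agent.OmegaLib
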