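import Groth.Prelude.Def_Omega2
import Groth.Agent.OmegaLib.StalkCompat
import Groth.Agent.AmpleLib.FTIdeal

/-!
# Stalks of the ideal sheaf of an immersion

The stalk of `ClSub.idealMod j.ker` at `j x` maps injectively to the local ring, with image the kernel
of the stalk map of `j` at `x`.
-/

set_option autoImplicit false
set_option backward.isDefEq.respectTransparency.types false
set_option backward.isDefEq.respectTransparency false
universe u

open CategoryTheory AlgebraicGeometry TopologicalSpace Opposite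

noncomputable section

namespace Groth.Agent.OmegaLib

variable {X : Scheme.{u}}

/-- The inclusion of an ideal sheaf on stalks. -/
theorem exists_idealStalkMap (I : X.IdealSheafData) (y : X) :
    ∃ ι : (DerSch.stalkFunctor X y).obj (ClSub.idealMod I) →ₗ[X.presheaf.stalk y] X.presheaf.stalk y,
      Function.Injective ι ∧
      ∀ (U : X.Opens) (hy : y ∈ U) (s : Γ(ClSub.idealMod I, U)),
        ι (gm _ U y hy s) = X.presheaf.germ U y hy (OmegaSh.idealSect I U s) := by
  choose U hU s hs using fun z : (DerSch.stalkFunctor X y).obj (ClSub.idealMod I) => exists_gm _ z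
  have key : ∀ (V : X.Opens) (hy : y ∈ V) (t : Γ(ClSub.idealMod I, V)),
      X.presheaf.germ (U (gm _ V y hy t)) y (hU _) (OmegaSh.idealSect I _ (s (gm _ V y hy t))) =
        X.presheaf.germ V y hy (OmegaSh.idealSect I V t) := by
    intro V hy t
    obtain ⟨W, hW, i, k, he⟩ := (ClSub.idealMod I).presheaf.germ_eq y (hU _) hy _ _ (hs (gm _ V y hy t))
    have hn : ∀ {A : X.Opens} (e : W ⟶ A) (a : Γ(ClSub.idealMod I, A)),
        X.presheaf.map e.op (OmegaSh.idealSect I A a) =
          OmegaSh.idealSect I W ((ClSub.idealMod I).presheaf.map e.op a) := fun e a =>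
      (congr($((ClSub.idealModι I).mapPresheaf.naturality e.op) a)).symm
    rw [← X.presheaf.germ_res_apply i y hW, ← X.presheaf.germ_res_apply k y hW, hn, hn, he]
  have common : ∀ a b : (DerSch.stalkFunctor X y).obj (ClSub.idealMod I), ∃ (V : X.Opens) (hV : y ∈ V)
      (p q : Γ(ClSub.idealMod I, V)), gm _ V y hV p = a ∧ gm _ V y hV q = b := fun a b =>
    ⟨U a ⊓ U b, ⟨hU a, hU b⟩, (ClSub.idealMod I).presheaf.map (homOfLE inf_le_left).op (s a),
      (ClSub.idealMod I).presheaf.map (homOfLE inf_le_right).op (s b),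
      (gm_res _ (hU a) inf_le_left _ _).trans (hs a), (gm_res _ (hU b) inf_le_right _ _).trans (hs b)⟩
  have hsmul : ∀ (V : X.Opens) (r : Γ(X, V)) (p : Γ(ClSub.idealMod I, V)),
      OmegaSh.idealSect I V (r • p) = r * OmegaSh.idealSect I V p := fun V r p =>
    congrArg (OmegaSh.fnSect X V) (Scheme.Modules.Hom.app_smul (ClSub.idealModι I) r p)
  refine ⟨{ toFun := fun z => X.presheaf.germ (U z) y (hU z) (OmegaSh.idealSect I _ (s z))
            map_add' := fun a b => ?_
            map_smul' := fun r a => ?_ }, fun a b hab => ?_, fun V hy t => key V hy t⟩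
  · obtain ⟨V, hV, p, q, rfl, rfl⟩ := common a b
    rw [← gm_add, key, key, key, map_add, map_add]
  · obtain ⟨V, hV, r, rfl⟩ := X.presheaf.exists_germ_eq (x := y) r
    obtain ⟨A, hA, p, rfl⟩ := exists_gm _ a
    have hy : y ∈ V ⊓ A := ⟨hV, hA⟩
    rw [← gm_res _ hA (inf_le_right : V ⊓ A ≤ A) hy p,
      ← X.presheaf.germ_res_apply (homOfLE (inf_le_left : V ⊓ A ≤ V)) y hy r, ← gm_smul, key, key,
      hsmul, map_mul]
    rfl
  · obtain ⟨V, hV, p, q, rfl, rfl⟩ := common a b
    simp only [LinearMap.coe_mk, AddHom.coe_mk, key] at hab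
    obtain ⟨W, hW, i, k, he⟩ := X.presheaf.germ_eq y hV hV _ _ hab
    rw [← gm_res _ hV i.le hW, ← gm_res _ hV i.le hW]
    congr 1
    have hinj : Function.Injective (OmegaSh.idealSect I W) := by
      haveI := AmpleLib.mono_idealModι I
      exact fun a b h => Coherent.app_injective_of_mono (ClSub.idealModι I) W h
    apply hinj
    have hn : ∀ (a : Γ(ClSub.idealMod I, V)),
        OmegaSh.idealSect I W ((ClSub.idealMod I).presheaf.map i.op a) =
          X.presheaf.map i.op (OmegaSh.idealSect I V a) := fun a =>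
      congr($((ClSub.idealModι I).mapPresheaf.naturality i.op) a)
    exact (hn p).trans (he.trans ((congrArg (fun e : W ⟶ V => X.presheaf.map e.op _)
      (Subsingleton.elim k i)).trans (hn q).symm))

/-- The image of the inclusion is the kernel of the stalk map, for a quasi-compact immersion. -/
theorem mem_range_idealStalkMap {X' : Scheme.{u}} (j : X' ⟶ X) [IsImmersion j] [QuasiCompact j] (x : X')
    {ι : (DerSch.stalkFunctor X (j x)).obj (ClSub.idealMod j.ker) →ₗ[X.presheaf.stalk (j x)]
      X.presheaf.stalk (j x)}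
    (hι : ∀ (U : X.Opens) (hy : j x ∈ U) (s : Γ(ClSub.idealMod j.ker, U)),
        ι (gm _ U (j x) hy s) = X.presheaf.germ U (j x) hy (OmegaSh.idealSect j.ker U s))
    (a : X.presheaf.stalk (j x)) : a ∈ LinearMap.range ι ↔ j.stalkMap x a = 0 := by
  constructor
  · rintro ⟨z, rfl⟩
    obtain ⟨U, hU, s, rfl⟩ := exists_gm _ z
    obtain ⟨V, hV, hyV, hVU⟩ := Opens.isBasis_iff_nbhd.mp X.isBasis_affineOpens hU
    rw [← gm_res _ hU hVU hyV, hι, Scheme.Hom.germ_stalkMap_apply]
    have h1 : OmegaSh.idealSect j.ker V ((ClSub.idealMod j.ker).presheaf.map (homOfLE hVU).op s) ∈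
        j.ker.ideal ⟨V, hV⟩ := by
      rw [← j.ker.ker_subschemeι_app ⟨V, hV⟩, RingHom.mem_ker]
      exact (AmpleLib.mem_range_idealModι _ _ _).1 ⟨_, rfl⟩
    rw [Scheme.Hom.ker_apply, RingHom.mem_ker] at h1
    exact (congrArg _ h1).trans (map_zero _)
  · intro ha
    obtain ⟨U, hU, t, rfl⟩ := X.presheaf.exists_germ_eq (x := j x) a
    rw [Scheme.Hom.germ_stalkMap_apply] at ha
    obtain ⟨W, hxW, i, k, he⟩ := X'.presheaf.germ_eq x
      (show x ∈ j ⁻¹ᵁ U from hU) (show x ∈ j ⁻¹ᵁ U from hU) (j.app U t) 0 (ha.trans (map_zero _).symm)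
    obtain ⟨O, hO, hOW⟩ := j.isEmbedding.toIsInducing.isOpen_iff.1 W.isOpen
    have hxO : j x ∈ (⟨O, hO⟩ : X.Opens) ⊓ U := by
      refine ⟨?_, hU⟩
      show x ∈ j ⁻¹' O
      rw [hOW]; exact hxW
    obtain ⟨V, hV, hyV, hVle⟩ := Opens.isBasis_iff_nbhd.mp X.isBasis_affineOpens hxO
    have hVW : j ⁻¹ᵁ V ≤ W := fun z hz => by
      have : z ∈ j ⁻¹' O := (hVle hz).1
      rwa [hOW] at this
    have hVU : V ≤ U := hVle.trans inf_le_right
    have h0 : j.app V (X.presheaf.map (homOfLE hVU).op t) = 0 := by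
      have h1 := congr($(j.naturality (homOfLE hVU).op) t)
      simp only [CommRingCat.comp_apply] at h1
      refine h1.trans ?_
      rw [show ((Opens.map j.base).map (homOfLE hVU).op.unop).op = i.op ≫ (homOfLE hVW).op from
          Subsingleton.elim _ _, Functor.map_comp, CommRingCat.comp_apply, he, map_zero, map_zero]
    have h2 : j.ker.subschemeι.app V (X.presheaf.map (homOfLE hVU).op t) = 0 := by
      rw [← RingHom.mem_ker, j.ker.ker_subschemeι_app ⟨V, hV⟩, Scheme.Hom.ker_apply]
      exact h0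
    obtain ⟨p, hp⟩ := (AmpleLib.mem_range_idealModι j.ker V _).2 h2
    refine ⟨gm _ V (j x) hyV p, ?_⟩
    rw [hι, show OmegaSh.idealSect j.ker V p = X.presheaf.map (homOfLE hVU).op t from hp]
    exact X.presheaf.germ_res_apply _ _ hyV _

end Groth.Agent.OmegaLib
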