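import Groth.Agent.OmegaLib.StalkLocal
import Groth.Agent.OmegaLib.ConormalStalk
import Mathlib.LinearAlgebra.TensorProduct.Quotient

/-!
# Conormal maps on stalks
-/

set_option autoImplicit false
set_option backward.isDefEq.respectTransparency.types false
set_option backward.isDefEq.respectTransparency false
universe u

open CategoryTheory CategoryTheory.Limits AlgebraicGeometry TopologicalSpace Opposite
open scoped TensorProduct

noncomputable section

namespace Groth.Agent.OmegaLib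

theorem idealSect_map {X : Scheme.{u}} (I : X.IdealSheafData) {V W : X.Opens} (e : W ⟶ V)
    (a : Γ(ClSub.idealMod I, V)) :
    OmegaSh.idealSect I W ((ClSub.idealMod I).presheaf.map e.op a) =
      X.presheaf.map e.op (OmegaSh.idealSect I V a) :=
  congr($((ClSub.idealModι I).mapPresheaf.naturality e.op) a)

theorem idealSect_injective {X : Scheme.{u}} (I : X.IdealSheafData) (W : X.Opens) :
    Function.Injective (OmegaSh.idealSect I W) := by
  haveI := AmpleLib.mono_idealModι I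
  exact fun a b h => Coherent.app_injective_of_mono (ClSub.idealModι I) W h

theorem idealSect_mem {X : Scheme.{u}} (I : X.IdealSheafData) {V : X.Opens} (hV : IsAffineOpen V)
    (s : Γ(ClSub.idealMod I, V)) : OmegaSh.idealSect I V s ∈ I.ideal ⟨V, hV⟩ := by
  rw [← I.ker_subschemeι_app ⟨V, hV⟩, RingHom.mem_ker]
  exact (AmpleLib.mem_range_idealModι _ _ _).1 ⟨s, rfl⟩

theorem exists_idealSect {X : Scheme.{u}} (I : X.IdealSheafData) {V : X.Opens} (hV : IsAffineOpen V)
    {t : Γ(X, V)} (ht : t ∈ I.ideal ⟨V, hV⟩) : ∃ s, OmegaSh.idealSect I V s = t := by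
  rw [← I.ker_subschemeι_app ⟨V, hV⟩, RingHom.mem_ker] at ht
  exact (AmpleLib.mem_range_idealModι _ _ _).2 ht

/-- Pulling back sections of an ideal sheaf. -/
theorem exists_idealSect_app {X X' : Scheme.{u}} (v : X' ⟶ X) (J : X'.IdealSheafData)
    (I : X.IdealSheafData) (h : I ≤ J.map v) (U : X.Opens) (s : Γ(ClSub.idealMod I, U)) :
    ∃ s', OmegaSh.idealSect J (v ⁻¹ᵁ U) s' = v.app U (OmegaSh.idealSect I U s) := by
  refine (AmpleLib.mem_range_idealModι J (v ⁻¹ᵁ U) _).2 ?_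
  have h0 : I.subschemeι.app U (OmegaSh.idealSect I U s) = 0 :=
    (AmpleLib.mem_range_idealModι I U _).1 ⟨s, rfl⟩
  have h1 := congr($(Scheme.Hom.congr_app (Scheme.IdealSheafData.subschemeMap_subschemeι J I v h) U)
    (OmegaSh.idealSect I U s))
  simp only [Scheme.Hom.comp_app, CommRingCat.comp_apply] at h1
  rw [h0, map_zero] at h1
  exact (map_eq_zero_iff _ (ConcreteCategory.bijective_of_isIso _).injective).1 h1.symm

/-- The value of a conormal map on germs of classes. -/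
theorem conormalMap_gm {Z X Z' X' : Scheme.{u}} {i : Z ⟶ X} {i' : Z' ⟶ X'} {g : X ⟶ X'} {gZ : Z ⟶ Z'}
    {φ : (Scheme.Modules.pullback gZ).obj (Omega.conormal i') ⟶ Omega.conormal i}
    (hφ : OmegaSh.IsConormalMap i i' g gZ φ) (U' : X'.Opens) (s' : Γ(ClSub.idealMod i'.ker, U'))
    (s : Γ(ClSub.idealMod i.ker, g ⁻¹ᵁ U'))
    (h : OmegaSh.idealSect i.ker (g ⁻¹ᵁ U') s = g.app U' (OmegaSh.idealSect i'.ker U' s'))
    (z : Z) (h₁ : z ∈ gZ ⁻¹ᵁ (i' ⁻¹ᵁ U')) (h₂ : z ∈ i ⁻¹ᵁ (g ⁻¹ᵁ U')) :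
    (DerSch.stalkFunctor Z z).map φ (gm _ (gZ ⁻¹ᵁ (i' ⁻¹ᵁ U')) z h₁
        (OmegaSh.pullSect gZ (Omega.conormal i') (i' ⁻¹ᵁ U') (OmegaSh.conormalSect i' U' s'))) =
      gm (Omega.conormal i) (i ⁻¹ᵁ (g ⁻¹ᵁ U')) z h₂ (OmegaSh.conormalSect i (g ⁻¹ᵁ U') s) := by
  let V : Z.Opens := gZ ⁻¹ᵁ (i' ⁻¹ᵁ U') ⊓ i ⁻¹ᵁ (g ⁻¹ᵁ U')
  have hz : z ∈ V := ⟨h₁, h₂⟩
  refine (map_gm (φ := φ) _ _ _).trans (((gm_res _ h₁ (inf_le_left : V ≤ _) hz _).symm.trans ?_).trans
    (gm_res _ h₂ (inf_le_right : V ≤ _) hz _))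
  exact congrArg (gm _ V z hz) (hφ.2 U' s' s h V inf_le_left inf_le_right)

theorem mem_ker_smul_of_one_tmul_eq_zero {A C M : Type u} [CommRing A] [CommRing C] [Algebra A C]
    [AddCommGroup M] [Module A M] (hs : Function.Surjective (algebraMap A C)) {m : M}
    (h : (1 : C) ⊗ₜ[A] m = 0) : m ∈ RingHom.ker (algebraMap A C) • (⊤ : Submodule A M) := by
  let e : (A ⧸ RingHom.ker (algebraMap A C)) ≃ₐ[A] C :=
    Ideal.quotientKerAlgEquivOfSurjective (f := Algebra.ofId A C) hs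
  have h1 := congrArg (TensorProduct.congr e.symm.toLinearEquiv (LinearEquiv.refl A M)) h
  rw [TensorProduct.congr_tmul, map_zero] at h1
  have h2 := congrArg (TensorProduct.quotTensorEquivQuotSMul M (RingHom.ker (algebraMap A C))) h1
  rw [map_zero, AlgEquiv.toLinearEquiv_apply, map_one, LinearEquiv.refl_apply,
    show (1 : A ⧸ RingHom.ker (algebraMap A C)) = Ideal.Quotient.mk _ 1 from rfl,
    TensorProduct.quotTensorEquivQuotSMul_mk_tmul, one_smul, Submodule.Quotient.mk_eq_zero] at h2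
  exact h2

/-- For a surjective stalk map, every element of a stalk of a pullback is the germ of a pulled-back section. -/
theorem exists_gm_pullSect {X Y : Scheme.{u}} (f : X ⟶ Y) (M : Y.Modules) (x : X)
    (hs : Function.Surjective (f.stalkMap x))
    (z : (DerSch.stalkFunctor X x).obj ((Scheme.Modules.pullback f).obj M)) :
    ∃ (U : Y.Opens) (hU : f x ∈ U) (s : Γ(M, U)),
      gm _ (f ⁻¹ᵁ U) x hU (OmegaSh.pullSect f M U s) = z := by
  letI := (f.stalkMap x).hom.toAlgebra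
  obtain ⟨E, hE⟩ := exists_pullback_stalk_equiv f M x
  obtain ⟨t, rfl⟩ := E.surjective z
  obtain ⟨m, rfl⟩ : ∃ m, (1 : X.presheaf.stalk x) ⊗ₜ[Y.presheaf.stalk (f x)] m = t := by
    induction t using TensorProduct.induction_on with
    | zero => exact ⟨0, TensorProduct.tmul_zero _ _⟩
    | tmul b i =>
      obtain ⟨a, rfl⟩ := hs b
      exact ⟨a • i, by rw [TensorProduct.tmul_smul, TensorProduct.smul_tmul', Algebra.smul_def, mul_one]; rfl⟩
    | add s t hs ht =>
      obtain ⟨i, rfl⟩ := hs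
      obtain ⟨i', rfl⟩ := ht
      exact ⟨i + i', TensorProduct.tmul_add _ _ _⟩
  obtain ⟨U, hU, s, rfl⟩ := exists_gm _ m
  exact ⟨U, hU, s, (hE U hU s).symm⟩

end Groth.Agent.OmegaLib
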