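import Groth.Prelude.Def_Omega3
import Mathlib.AlgebraicGeometry.AffineScheme

/-!
# Derivations of the structure sheaf: generalities
-/

set_option autoImplicit false
set_option backward.isDefEq.respectTransparency.types false
set_option backward.isDefEq.respectTransparency false
universe u

open CategoryTheory AlgebraicGeometry TopologicalSpace Opposite

namespace Groth.Agent.OmegaLib

variable {X Y : Scheme.{u}} {f : X ⟶ Y} {F : X.Modules}

theorem app_mul (D : OmegaSh.Der f F) (U : X.Opens) (a b : Γ(X, U)) :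
    D.app U (a * b) = a • D.app U b + b • D.app U a :=
  D.d_mul a b

theorem app_one (D : OmegaSh.Der f F) (U : X.Opens) : D.app U 1 = 0 := D.d_one _

theorem app_map (D : OmegaSh.Der f F) {U V : X.Opens} (h : V ≤ U) (s : Γ(X, U)) :
    D.app V (X.presheaf.map (homOfLE h).op s) = F.presheaf.map (homOfLE h).op (D.app U s) :=
  D.d_map _ s

theorem app_app (D : OmegaSh.Der f F) (V : Y.Opens) (c : Γ(Y, V)) :
    D.app (f ⁻¹ᵁ V) (f.app V c) = 0 :=
  D.d_app (X := op V) c

theorem app_appLE (D : OmegaSh.Der f F) {V : Y.Opens} {U : X.Opens} (e : U ≤ f ⁻¹ᵁ V) (c : Γ(Y, V)) :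
    D.app U (f.appLE V U e c) = 0 := by
  rw [Scheme.Hom.appLE, CommRingCat.comp_apply, app_map D e, app_app, map_zero]

theorem eq_zero_of_isUnit_smul {U : X.Opens} {r : Γ(X, U)} (hr : IsUnit r) {z : Γ(F, U)} (h : r • z = 0) :
    z = 0 := by
  obtain ⟨v, rfl⟩ := hr
  simpa using congrArg (fun w => (↑v⁻¹ : Γ(X, U)) • w) h

theorem smul_cancel_of_isUnit {U : X.Opens} {r : Γ(X, U)} (hr : IsUnit r) {z z' : Γ(F, U)}
    (h : r • z = r • z') : z = z' :=
  sub_eq_zero.1 (eq_zero_of_isUnit_smul hr (by rw [smul_sub, h, sub_self]))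

/-- Sections of a module are determined locally. -/
theorem section_ext {U : X.Opens} {z z' : Γ(F, U)}
    (h : ∀ x ∈ U, ∃ (V : X.Opens) (hV : V ≤ U), x ∈ V ∧
      F.presheaf.map (homOfLE hV).op z = F.presheaf.map (homOfLE hV).op z') : z = z' := by
  refine TopCat.Presheaf.IsSheaf.section_ext F.isSheaf ?_
  intro x hx
  exact h x hx

theorem exists_basicOpen_le' {U : X.Opens} (hU : IsAffineOpen U) {V : X.Opens} {x : X}
    (hxV : x ∈ V) (hxU : x ∈ U) : ∃ g : Γ(X, U), X.basicOpen g ≤ V ∧ x ∈ X.basicOpen g :=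
  hU.exists_basicOpen_le ⟨x, hxV⟩ hxU

/-- On an affine open a derivation is determined by its values on global functions. -/
theorem der_eq_of_top (D D' : OmegaSh.Der f F) {U : X.Opens} (hU : IsAffineOpen U)
    (h : ∀ b : Γ(X, U), D.app U b = D'.app U b) {V : X.Opens} (hV : V ≤ U) (s : Γ(X, V)) :
    D.app V s = D'.app V s := by
  refine section_ext fun x hx => ?_
  obtain ⟨g, hgV, hxg⟩ := exists_basicOpen_le' hU hx (hV hx)
  refine ⟨X.basicOpen g, hgV, hxg, ?_⟩
  rw [← app_map D hgV, ← app_map D' hgV]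
  generalize X.presheaf.map (homOfLE hgV).op s = t
  haveI := hU.isLocalization_basicOpen g
  obtain ⟨⟨b, m, n, rfl⟩, hb⟩ := IsLocalization.surj (Submonoid.powers g) t
  have hres : ∀ (E : OmegaSh.Der f F) (c : Γ(X, U)),
      E.app (X.basicOpen g) (algebraMap Γ(X, U) Γ(X, X.basicOpen g) c) =
        F.presheaf.map (homOfLE (X.basicOpen_le g)).op (E.app U c) :=
    fun E c => app_map E _ c
  have h1 := congrArg (D.app (X.basicOpen g)) hb
  have h2 := congrArg (D'.app (X.basicOpen g)) hb
  rw [app_mul, hres, hres] at h1 h2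
  rw [h, h] at h1
  rw [← h1] at h2
  exact smul_cancel_of_isUnit
    (show IsUnit (algebraMap Γ(X, U) Γ(X, X.basicOpen g) (g ^ n)) by
      rw [map_pow]; exact (IsLocalization.Away.algebraMap_isUnit g).pow n)
    (add_left_cancel h2.symm)

theorem der_ext {D D' : OmegaSh.Der f F} (h : ∀ (U : X.Opens) (s : Γ(X, U)), D.app U s = D'.app U s) :
    D = D' := by
  refine PresheafOfModules.Derivation.ext (funext fun U => ?_)
  exact AddMonoidHom.ext fun s => h U.unop s

theorem hom_ext_of_isUniversal {Ω' : X.Modules} {d : OmegaSh.Der f Ω'} (hd : OmegaSh.IsUniversal d)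
    {α α' : Ω' ⟶ F} (h : ∀ (U : X.Opens) (s : Γ(X, U)), α.app U (d.app U s) = α'.app U (d.app U s)) :
    α = α' := by
  obtain ⟨β, -, huniq⟩ := hd F (d.postcomp α.val)
  rw [huniq α rfl, huniq α' (der_ext fun U s => (h U s).symm)]

/-- Derivations into a direct image from an affine open are determined on that affine open. -/
theorem der_pushforward_ext {W : Scheme.{u}} (j : W ⟶ X) {U : X.Opens} (hU : IsAffineOpen U)
    (hj : ∀ w, j w ∈ U) {G : W.Modules} (D D' : OmegaSh.Der f ((Scheme.Modules.pushforward j).obj G))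
    (h : ∀ b : Γ(X, U), D.app U b = D'.app U b) : D = D' := by
  refine der_ext fun V s => ?_
  have hpre : j ⁻¹ᵁ V = j ⁻¹ᵁ (V ⊓ U) := by
    ext w; exact ⟨fun hw => ⟨hw, hj w⟩, fun hw => hw.1⟩
  have h1 := der_eq_of_top D D' hU h (inf_le_right : V ⊓ U ≤ U) (X.presheaf.map (homOfLE (inf_le_left : V ⊓ U ≤ V)).op s)
  rw [app_map, app_map] at h1
  haveI : IsIso (G.presheaf.map ((Opens.map j.base).map (homOfLE (inf_le_left : V ⊓ U ≤ V))).op) :=
    inferInstanceAs (IsIso (G.presheaf.map (eqToHom hpre.symm).op))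
  exact (ConcreteCategory.bijective_of_isIso
    (G.presheaf.map ((Opens.map j.base).map (homOfLE (inf_le_left : V ⊓ U ≤ V))).op)).1 h1

end Groth.Agent.OmegaLib
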