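import Groth.Agent.S5952
import Groth.Agent.OmegaLib.ConormalMap
import Groth.Agent.Omega15.Geometry
import Mathlib.RingTheory.RingHom.Flat

/-!
# Base change of the graded pieces of a closed immersion
-/

set_option autoImplicit false
set_option linter.style.haveILetI false
set_option backward.isDefEq.respectTransparency.types false
set_option backward.isDefEq.respectTransparency false
universe u

open CategoryTheory CategoryTheory.Limits AlgebraicGeometry TopologicalSpace Opposite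
open scoped TensorProduct

noncomputable section

namespace Groth.Agent.OmegaLib

/-- The stalk of an ideal sheaf, computed on an affine open. -/
theorem range_idealStalkMap_eq_map {X : Scheme.{u}} (J : X.IdealSheafData) (z : X) {V : X.Opens}
    (hV : IsAffineOpen V) (hz : z ∈ V)
    {ι : (DerSch.stalkFunctor X z).obj (ClSub.idealMod J) →ₗ[X.presheaf.stalk z] X.presheaf.stalk z}
    (hι : ∀ (U : X.Opens) (hy : z ∈ U) (s : Γ(ClSub.idealMod J, U)),
        ι (gm _ U z hy s) = X.presheaf.germ U z hy (OmegaSh.idealSect J U s)) :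
    LinearMap.range ι = (J.ideal ⟨V, hV⟩).map (X.presheaf.germ V z hz).hom := by
  refine le_antisymm ?_ (Ideal.map_le_iff_le_comap.2 fun r hr => ?_)
  · rintro _ ⟨m, rfl⟩
    obtain ⟨U', hU', s, rfl⟩ := exists_gm _ m
    obtain ⟨V', hV', hyV', hle⟩ := Opens.isBasis_iff_nbhd.mp X.isBasis_affineOpens
      (show z ∈ U' ⊓ V from ⟨hU', hz⟩)
    rw [← gm_res _ hU' (hle.trans inf_le_left) hyV', hι]
    have hmem := idealSect_mem J hV' ((ClSub.idealMod J).presheaf.map (homOfLE (hle.trans inf_le_left)).op s)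
    rw [← J.map_ideal (U := ⟨V', hV'⟩) (V := ⟨V, hV⟩) (hle.trans inf_le_right)] at hmem
    have h2 := Ideal.mem_map_of_mem (X.presheaf.germ V' z hyV').hom hmem
    rw [Ideal.map_map, ← CommRingCat.hom_comp] at h2
    convert h2 using 3
    exact (X.presheaf.germ_res (homOfLE (hle.trans inf_le_right)) z hyV').symm
  · obtain ⟨s, hs⟩ := exists_idealSect J hV hr
    exact ⟨gm _ V z hz s, (hι V hz s).trans (congrArg _ hs)⟩

theorem map_germ_eq_ker {Y X : Scheme.{u}} (f : Y ⟶ X) [IsClosedImmersion f] (y : Y) {V : X.Opens}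
    (hV : IsAffineOpen V) (hy : f y ∈ V) :
    (f.ker.ideal ⟨V, hV⟩).map (X.presheaf.germ V (f y) hy).hom = RingHom.ker (f.stalkMap y).hom := by
  obtain ⟨ι, -, hι⟩ := exists_idealStalkMap f.ker (f y)
  rw [← range_idealStalkMap_eq_map f.ker (f y) hV hy hι]
  exact Ideal.ext fun a => (mem_range_idealStalkMap f y hι a).trans RingHom.mem_ker.symm

/-- The local ring map `O_{X, f (u y')} → O_{X', f' y'}` of a square. -/
def sqMap {Y X Y' X' : Scheme.{u}} (f : Y ⟶ X) (v : X' ⟶ X) (u : Y' ⟶ Y) (f' : Y' ⟶ X')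
    (w : u ≫ f = f' ≫ v) (y : Y') : X.presheaf.stalk (f (u y)) ⟶ X'.presheaf.stalk (f' y) :=
  X.presheaf.stalkSpecializes (specializes_of_eq (by
    show (f' ≫ v) y = (u ≫ f) y
    rw [w])) ≫ v.stalkMap (f' y)

theorem sqMap_germ {Y X Y' X' : Scheme.{u}} (f : Y ⟶ X) (v : X' ⟶ X) (u : Y' ⟶ Y) (f' : Y' ⟶ X')
    (w : u ≫ f = f' ≫ v) (y : Y') (W : X.Opens) (hW : f (u y) ∈ W) (hW' : f' y ∈ v ⁻¹ᵁ W) (r : Γ(X, W)) :
    sqMap f v u f' w y (X.presheaf.germ W _ hW r) = X'.presheaf.germ (v ⁻¹ᵁ W) (f' y) hW' (v.app W r) := by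
  show v.stalkMap (f' y) (X.presheaf.stalkSpecializes _ (X.presheaf.germ W _ hW r)) = _
  rw [TopCat.Presheaf.germ_stalkSpecializes_apply, Scheme.Hom.germ_stalkMap_apply]

theorem flat_sqMap {Y X Y' X' : Scheme.{u}} (f : Y ⟶ X) (v : X' ⟶ X) [Flat v] (u : Y' ⟶ Y) (f' : Y' ⟶ X')
    (w : u ≫ f = f' ≫ v) (y : Y') : (sqMap f v u f' w y).hom.Flat := by
  have h : v (f' y) = f (u y) := by
    show (f' ≫ v) y = (u ≫ f) y
    rw [w]
  haveI : IsIso (X.presheaf.stalkSpecializes (specializes_of_eq h)) :=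
    inferInstanceAs (IsIso (X.presheaf.stalkCongr (Inseparable.of_eq h.symm)).hom)
  exact RingHom.Flat.comp (RingHom.Flat.of_bijective (ConcreteCategory.bijective_of_isIso _))
    (AlgebraicGeometry.Flat.stalkMap v (f' y))

set_option maxHeartbeats 400000 in
/-- Base change of `I^n / I^(n+1)` is bijective as soon as the powers of the ideal base change injectively. -/
theorem isIso_grMap_of_injective {Y X Y' X' : Scheme.{u}} (f : Y ⟶ X) [IsClosedImmersion f]
    (v : X' ⟶ X) (u : Y' ⟶ Y) (f' : Y' ⟶ X') (hsq : IsPullback u f' f v) (n : ℕ)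
    (φ : (Scheme.Modules.pullback u).obj (PrinPart.grMod f n) ⟶ PrinPart.grMod f' n)
    (hφ : PrinPart.IsGrMap f' f v u n φ)
    (hinj : ∀ y : Y', letI := (sqMap f v u f' hsq.w y).hom.toAlgebra
      Function.Injective (LinearMap.liftBaseChange (X'.presheaf.stalk (f' y))
        ((Algebra.linearMap (X.presheaf.stalk (f (u y))) (X'.presheaf.stalk (f' y))).comp
          (Submodule.subtype (RingHom.ker (f.stalkMap (u y)).hom ^ n : Ideal (X.presheaf.stalk (f (u y)))))))) :
    IsIso φ := by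
  haveI : Epi φ := S5952.result f v u f' hsq n φ hφ
  haveI : IsClosedImmersion f' := MorphismProperty.of_isPullback hsq inferInstance
  suffices h0 : ∀ y', Function.Injective ((DerSch.stalkFunctor Y' y').map φ) by
    haveI := mono_of_stalks_injective φ h0
    exact isIso_of_mono_of_epi φ
  intro y'
  let x' : X' := f' y'
  let x : X := f (u y')
  have hxx : v x' = x := by
    show (f' ≫ v) y' = (u ≫ f) y'
    rw [hsq.w]
  obtain ⟨U, hU, hxU, -⟩ := Opens.isBasis_iff_nbhd.mp X.isBasis_affineOpens (Opens.mem_top x)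
  obtain ⟨U', hU', hxU', hle'⟩ := Opens.isBasis_iff_nbhd.mp X'.isBasis_affineOpens
    (show x' ∈ v ⁻¹ᵁ U by show v x' ∈ U; rw [hxx]; exact hxU)
  let A := X.presheaf.stalk x
  let A' := X'.presheaf.stalk x'
  let C := Y.presheaf.stalk (u y')
  let C' := Y'.presheaf.stalk y'
  let vv : A ⟶ A' := sqMap f v u f' hsq.w y'
  have hvv := sqMap_germ f v u f' hsq.w y'
  letI : Algebra A A' := vv.hom.toAlgebra
  letI : Algebra A C := (f.stalkMap (u y')).hom.toAlgebra
  letI : Algebra C C' := (u.stalkMap y').hom.toAlgebra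
  letI : Algebra A' C' := (f'.stalkMap y').hom.toAlgebra
  letI : Algebra A C' := (f.stalkMap (u y') ≫ u.stalkMap y').hom.toAlgebra
  haveI : IsScalarTower A C C' := .of_algebraMap_eq fun _ => rfl
  have hgerm : ∀ {p q : Y' ⟶ X} (_ : p = q) (W : X.Opens) (hp : y' ∈ p ⁻¹ᵁ W) (hq : y' ∈ q ⁻¹ᵁ W) (r : Γ(X, W)),
      Y'.presheaf.germ (p ⁻¹ᵁ W) y' hp (p.app W r) = Y'.presheaf.germ (q ⁻¹ᵁ W) y' hq (q.app W r) := by
    intro p q h W hp hq r; subst h; rfl
  haveI : IsScalarTower A A' C' := .of_algebraMap_eq fun a => by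
    obtain ⟨W, hW, r, rfl⟩ := X.presheaf.exists_germ_eq (x := x) a
    show u.stalkMap y' (f.stalkMap (u y') (X.presheaf.germ W x hW r)) = f'.stalkMap y' (vv (X.presheaf.germ W x hW r))
    rw [hvv W hW (by show v x' ∈ W; rw [hxx]; exact hW), Scheme.Hom.germ_stalkMap_apply,
      Scheme.Hom.germ_stalkMap_apply, Scheme.Hom.germ_stalkMap_apply]
    exact hgerm hsq.w W hW (by show v (f' y') ∈ W; rw [hxx]; exact hW) r
  haveI : SMulCommClass C A' C' := ⟨fun a b c => by simp only [Algebra.smul_def]; ring⟩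
  haveI : SMulCommClass C A C' := ⟨fun a b c => by simp only [Algebra.smul_def]; ring⟩
  let P : Ideal A := RingHom.ker (f.stalkMap (u y')).hom ^ n
  obtain ⟨ι, hιi, hι⟩ := exists_idealStalkMap (f.ker ^ n) x
  obtain ⟨ι', hι'i, hι'⟩ := exists_idealStalkMap (f'.ker ^ n) x'
  obtain ⟨EF, hEF⟩ := exists_pullback_stalk_equiv f (ClSub.idealMod (f.ker ^ n)) (u y')
  obtain ⟨EF', hEF'⟩ := exists_pullback_stalk_equiv f' (ClSub.idealMod (f'.ker ^ n)) y'
  obtain ⟨EU, hEU⟩ := exists_pullback_stalk_equiv u (PrinPart.grMod f n) y'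
  let M := (DerSch.stalkFunctor X x).obj (ClSub.idealMod (f.ker ^ n))
  let M' := (DerSch.stalkFunctor X' x').obj (ClSub.idealMod (f'.ker ^ n))
  have hr : LinearMap.range ι = P := by
    rw [range_idealStalkMap_eq_map (f.ker ^ n) x hU hxU hι, Scheme.IdealSheafData.ideal_pow, Pi.pow_apply,
      Ideal.map_pow, map_germ_eq_ker f (u y') hU hxU]
  have hid : (f'.ker ^ n).ideal ⟨U', hU'⟩ = ((f.ker ^ n).ideal ⟨U, hU⟩).map (v.appLE U U' hle').hom := by
    rw [show f'.ker ^ n = (f.ker ^ n).comap v by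
      rw [FSchLib.comap_pow, FSchLib.ker_of_isPullback hsq.flip]]
    exact FSchLib.ideal_comap_eq_map v _ ⟨U', hU'⟩ ⟨U, hU⟩ hle'
  have hr' : LinearMap.range ι' = Ideal.map vv.hom (LinearMap.range ι) := by
    rw [range_idealStalkMap_eq_map (f'.ker ^ n) x' hU' hxU' hι', hid,
      range_idealStalkMap_eq_map (f.ker ^ n) x hU hxU hι, Ideal.map_map, Ideal.map_map]
    congr 1
    refine RingHom.ext fun a => ?_
    show X'.presheaf.germ U' x' hxU' (v.appLE U U' hle' a) = vv (X.presheaf.germ U x hxU a)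
    rw [hvv U hxU (hle' hxU'), Scheme.Hom.appLE, CommRingCat.comp_apply]
    exact X'.presheaf.germ_res_apply _ x' hxU' _
  have hμ : ∀ m : M, algebraMap A A' (ι m) ∈ LinearMap.range ι' := fun m =>
    hr' ▸ Ideal.mem_map_of_mem vv.hom (LinearMap.mem_range_self ι m)
  let lι' : M' ≃ₗ[A'] LinearMap.range ι' := LinearEquiv.ofInjective ι' hι'i
  let eM : M ≃ₗ[A] P := (LinearEquiv.ofInjective ι hιi).trans (LinearEquiv.ofEq _ _ hr)
  let lifted : A' ⊗[A] M →ₗ[A'] A' :=
    (LinearMap.liftBaseChange A' ((Algebra.linearMap A A').comp P.subtype)) ∘ₗ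
      (LinearEquiv.baseChange A A' _ _ eM).toLinearMap
  have hlifted1 : ∀ m : M, lifted (1 ⊗ₜ m) = algebraMap A A' (ι m) := fun m => by
    show LinearMap.liftBaseChange A' _ (LinearEquiv.baseChange A A' _ _ eM (1 ⊗ₜ m)) = _
    rw [LinearEquiv.baseChange_tmul, LinearMap.liftBaseChange_tmul, one_smul]
    rfl
  have hlifted : ∀ t, lifted t ∈ LinearMap.range ι' := by
    intro t
    induction t using TensorProduct.induction_on with
    | zero => rw [map_zero]; exact zero_mem _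
    | add a b ha hb => rw [map_add]; exact add_mem ha hb
    | tmul b m =>
      rw [show b ⊗ₜ[A] m = b • ((1 : A') ⊗ₜ[A] m) by rw [TensorProduct.smul_tmul', smul_eq_mul, mul_one],
        map_smul, hlifted1]
      exact Submodule.smul_mem _ _ (hμ m)
  let h : A' ⊗[A] M →ₗ[A'] M' := lι'.symm.toLinearMap ∘ₗ lifted.codRestrict _ hlifted
  have hh : ∀ t, ι' (h t) = lifted t := fun t =>
    congrArg Subtype.val (lι'.apply_symm_apply ⟨lifted t, hlifted t⟩)
  have hbij : Function.Bijective h := by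
    constructor
    · intro a b hab
      have h1 : lifted a = lifted b := by rw [← hh, ← hh, hab]
      exact (LinearEquiv.baseChange A A' _ _ eM).injective (hinj y' h1)
    · intro m
      have hm : ι' m ∈ LinearMap.range lifted := by
        have h1 : ι' m ∈ Ideal.map vv.hom (LinearMap.range ι) := hr' ▸ LinearMap.mem_range_self ι' m
        refine (Ideal.map_le_iff_le_comap (K := LinearMap.range lifted)).2 ?_ h1
        rintro a ⟨m₀, hm₀⟩
        have h3 : algebraMap A A' (ι m₀) ∈ LinearMap.range lifted :=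
          LinearMap.mem_range.2 ⟨(1 : A') ⊗ₜ[A] m₀, hlifted1 m₀⟩
        rw [hm₀] at h3
        exact Ideal.mem_comap.2 h3
      obtain ⟨t, ht⟩ := hm
      exact ⟨t, hι'i ((hh t).trans ht)⟩
  let N := C' ⊗[C] (C ⊗[A] M)
  let lin : M →ₗ[A] N :=
    ((TensorProduct.mk C C' (C ⊗[A] M) 1).restrictScalars A) ∘ₗ (TensorProduct.mk A C M 1)
  let e := LinearEquiv.ofBijective h hbij
  let Θ : (DerSch.stalkFunctor Y' y').obj (PrinPart.grMod f' n) →ₗ[C'] N :=
    (LinearMap.liftBaseChange C' ((LinearMap.liftBaseChange A' lin) ∘ₗ e.symm.toLinearMap)) ∘ₗ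
      EF'.symm.toLinearMap
  let Φ : (DerSch.stalkFunctor Y' y').obj ((Scheme.Modules.pullback u).obj (PrinPart.grMod f n)) →ₗ[C']
      (DerSch.stalkFunctor Y' y').obj (PrinPart.grMod f' n) := ((DerSch.stalkFunctor Y' y').map φ).hom
  let EU' : N ≃ₗ[C'] (DerSch.stalkFunctor Y' y').obj ((Scheme.Modules.pullback u).obj (PrinPart.grMod f n)) :=
    (LinearEquiv.baseChange C C' _ _ EF).trans EU
  have hle : f.ker ^ n ≤ (f'.ker ^ n).map v := by
    rw [Scheme.IdealSheafData.le_map_iff_comap_le, FSchLib.comap_pow, FSchLib.ker_of_isPullback hsq.flip]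
  have key : ∀ z : N, Θ (Φ (EU' z)) = z := by
    have base : ∀ m : M, Θ (Φ (EU' (1 ⊗ₜ (1 ⊗ₜ m)))) = 1 ⊗ₜ (1 ⊗ₜ m) := by
      intro m
      obtain ⟨W, hW, s, rfl⟩ := exists_gm _ m
      obtain ⟨s', hs'⟩ := exists_idealSect_app v (f'.ker ^ n) (f.ker ^ n) hle W s
      have h1 : x' ∈ v ⁻¹ᵁ W := by show v x' ∈ W; rw [hxx]; exact hW
      have h2 : Φ (EU' (1 ⊗ₜ (1 ⊗ₜ gm (ClSub.idealMod (f.ker ^ n)) W x hW s))) =
          EF' (1 ⊗ₜ gm (ClSub.idealMod (f'.ker ^ n)) (v ⁻¹ᵁ W) x' h1 s') := by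
        rw [hEF']
        show Φ (EU (LinearEquiv.baseChange C C' _ _ EF (1 ⊗ₜ (1 ⊗ₜ _)))) = _
        rw [LinearEquiv.baseChange_tmul, hEF]
        refine (congrArg Φ (hEU (f ⁻¹ᵁ W) hW _)).trans ?_
        let V : Y'.Opens := u ⁻¹ᵁ (f ⁻¹ᵁ W) ⊓ f' ⁻¹ᵁ (v ⁻¹ᵁ W)
        have hW' : y' ∈ u ⁻¹ᵁ (f ⁻¹ᵁ W) := hW
        have hy : y' ∈ V := ⟨hW', h1⟩
        refine (map_gm (φ := φ) _ hW' _).trans (((gm_res _ hW' (inf_le_left : V ≤ _) hy _).symm.trans ?_).trans
          (gm_res _ (show y' ∈ f' ⁻¹ᵁ (v ⁻¹ᵁ W) from h1) (inf_le_right : V ≤ _) hy _))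
        exact congrArg (gm _ V y' hy) (hφ.2 W s s' hs' V inf_le_left inf_le_right)
      have h3 : h (1 ⊗ₜ gm (ClSub.idealMod (f.ker ^ n)) W x hW s) =
          gm (ClSub.idealMod (f'.ker ^ n)) (v ⁻¹ᵁ W) x' h1 s' := by
        apply hι'i
        rw [hh, hlifted1, hι, hι', hs']
        exact hvv W hW h1 _
      rw [h2]
      show LinearMap.liftBaseChange C' _ (EF'.symm (EF' _)) = _
      rw [LinearEquiv.symm_apply_apply, LinearMap.liftBaseChange_tmul, one_smul, LinearMap.comp_apply]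
      show LinearMap.liftBaseChange A' lin (e.symm _) = _
      rw [← h3, show h (1 ⊗ₜ gm (ClSub.idealMod (f.ker ^ n)) W x hW s) =
        e (1 ⊗ₜ gm (ClSub.idealMod (f.ker ^ n)) W x hW s) from rfl, LinearEquiv.symm_apply_apply,
        LinearMap.liftBaseChange_tmul, one_smul]
      rfl
    intro z
    induction z using TensorProduct.induction_on with
    | zero => simp only [map_zero]
    | add a b ha hb => simp only [map_add, ha, hb]
    | tmul c t =>
      induction t using TensorProduct.induction_on generalizing c with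
      | zero => simp only [TensorProduct.tmul_zero, map_zero]
      | add a b ha hb => simp only [TensorProduct.tmul_add, map_add, ha, hb]
      | tmul d m =>
        rw [show c ⊗ₜ[C] (d ⊗ₜ[A] m) = (c * algebraMap C C' d) • ((1 : C') ⊗ₜ[C] ((1 : C) ⊗ₜ[A] m)) by
          rw [TensorProduct.smul_tmul', smul_eq_mul, mul_one, mul_comm, ← Algebra.smul_def,
            TensorProduct.smul_tmul, TensorProduct.smul_tmul', smul_eq_mul, mul_one]]
        simp only [map_smul, base]
  intro a b hab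
  obtain ⟨z, rfl⟩ := EU'.surjective a
  obtain ⟨z', rfl⟩ := EU'.surjective b
  rw [← key z, ← key z']
  exact congrArg (fun w => EU' (Θ w)) hab

end Groth.Agent.OmegaLib
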