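import Groth.Agent.OmegaLib.Universal
import Groth.Agent.Flatn12.PullbackSections
import Groth.Agent.Coherent.QcohLocal

/-!
# Sections of a sheaf of differentials on affine opens; quasi-coherence
-/

set_option autoImplicit false
set_option backward.isDefEq.respectTransparency.types false
set_option backward.isDefEq.respectTransparency false
universe u

open CategoryTheory AlgebraicGeometry TopologicalSpace Opposite

noncomputable section

namespace Groth.Agent.OmegaLib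

variable {X Y : Scheme.{u}} {f : X ⟶ Y} {W : Y.Opens} {U : X.Opens}
variable {Ω' : X.Modules} {d : OmegaSh.Der f Ω'}

/-- On affine opens `U ≤ f⁻¹ W` the sections of `Ω'` are the Kaehler differentials. -/
theorem exists_sections_equiv (hd : OmegaSh.IsUniversal d) (e : U ≤ f ⁻¹ᵁ W) (hW : IsAffineOpen W)
    (hU : IsAffineOpen U) :
    letI := (f.appLE W U e).hom.toAlgebra
    ∃ ψ : Ω[Γ(X, U)⁄Γ(Y, W)] ≃ₗ[Γ(X, U)] Γ(Ω', U),
      ∀ b, ψ (KaehlerDifferential.D Γ(Y, W) Γ(X, U) b) = d.app U b := by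
  letI := (f.appLE W U e).hom.toAlgebra
  obtain ⟨φ, hφ⟩ := exists_iso_chart e hW hU hd
  let E₁ : Ω[Γ(X, U)⁄Γ(Y, W)] ≃ₗ[Γ(X, U)] ↑(moduleSpecΓFunctor.obj (Ω'.restrict hU.fromSpec)) :=
    ((tilde.toTildeΓNatIso.app (OmegaMod Γ(Y, W) Γ(X, U))) ≪≫
      (moduleSpecΓFunctor.mapIso φ).symm).toLinearEquiv
  refine ⟨E₁.trans (Flatn12.secEquiv hU Ω'), fun b => ?_⟩
  have h1 : E₁ (KaehlerDifferential.D Γ(Y, W) Γ(X, U) b) =
      d.app (hU.fromSpec ''ᵁ ⊤) (X.presheaf.map (homOfLE (image_top_le hU)).op b) := by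
    show φ.inv.app ⊤ (tilde.toOpen (OmegaMod Γ(Y, W) Γ(X, U)) ⊤ (KaehlerDifferential.D Γ(Y, W) Γ(X, U) b)) = _
    rw [← hφ b, ← ConcreteCategory.comp_apply, ← Scheme.Modules.Hom.comp_app, φ.hom_inv_id]
    rfl
  rw [LinearEquiv.trans_apply, h1]
  show Ω'.presheaf.map _ (d.app (hU.fromSpec ''ᵁ ⊤) _) = _
  refine (app_map d (le_image_top hU) _).symm.trans ?_
  rw [← CommRingCat.comp_apply, ← Functor.map_comp]
  exact congrArg _ (congr($(X.presheaf.map_id (op U)) b))

theorem span_range_app (hd : OmegaSh.IsUniversal d) (e : U ≤ f ⁻¹ᵁ W) (hW : IsAffineOpen W)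
    (hU : IsAffineOpen U) : Submodule.span Γ(X, U) (Set.range (d.app U)) = ⊤ := by
  letI := (f.appLE W U e).hom.toAlgebra
  obtain ⟨ψ, hψ⟩ := exists_sections_equiv hd e hW hU
  rw [show Set.range (d.app U) = ψ.toLinearMap '' Set.range (KaehlerDifferential.D Γ(Y, W) Γ(X, U)) by
      rw [← Set.range_comp]; exact congrArg Set.range (funext fun b => (hψ b).symm),
    ← Submodule.map_span, KaehlerDifferential.span_range_derivation, Submodule.map_top,
    LinearEquiv.range]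

/-- Each point has an affine neighbourhood over an affine open of the target, inside a given open. -/
theorem exists_affine_pair (f : X ⟶ Y) {O : X.Opens} {x : X} (hx : x ∈ O) :
    ∃ (W : Y.Opens) (U : X.Opens), IsAffineOpen W ∧ IsAffineOpen U ∧ x ∈ U ∧ U ≤ O ∧ U ≤ f ⁻¹ᵁ W := by
  obtain ⟨W, hW, hxW, -⟩ := Opens.isBasis_iff_nbhd.mp Y.isBasis_affineOpens (Opens.mem_top (f x))
  obtain ⟨U, hU, hxU, hUle⟩ := Opens.isBasis_iff_nbhd.mp X.isBasis_affineOpens
    (show x ∈ O ⊓ f ⁻¹ᵁ W from ⟨hx, hxW⟩)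
  exact ⟨W, U, hW, hU, hxU, hUle.trans inf_le_left, hUle.trans inf_le_right⟩

theorem isQCoh_omegaTilde (e : U ≤ f ⁻¹ᵁ W) : Coh.IsQCoh (omegaTilde e) := by
  letI := (f.appLE W U e).hom.toAlgebra
  exact inferInstanceAs ((tilde (OmegaMod Γ(Y, W) Γ(X, U))).IsQuasicoherent)

/-- A sheaf of differentials is quasi-coherent. -/
theorem isQCoh_of_isUniversal (hd : OmegaSh.IsUniversal d) : Coh.IsQCoh Ω' := by
  choose W U hW hU hxU hUO hUW using fun x : X => exists_affine_pair f (Opens.mem_top x)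
  refine Coherent.isQCoh_of_openImmersion_cover Ω' (fun x => (hU x).fromSpec)
    (fun x => ⟨x, ?_⟩) (fun x => ?_)
  · rw [(hU x).opensRange_fromSpec]
    exact hxU x
  · obtain ⟨φ, -⟩ := exists_iso_chart (hUW x) (hW x) (hU x) hd
    have := isQCoh_omegaTilde (f := f) (hUW x)
    exact (SheafOfModules.isQuasicoherent.{u} (Spec Γ(X, U x)).ringCatSheaf).prop_of_iso φ.symm this

end Groth.Agent.OmegaLib
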