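import Mathlib.RingTheory.Smooth.Basic
import Mathlib.RingTheory.Kaehler.Basic
import Mathlib.LinearAlgebra.Dimension.Finite
import Mathlib.LinearAlgebra.FreeModule.Finite.Basic
import Mathlib.RingTheory.LocalRing.Module

/-!
# The conormal module `B ⊗[A] I` of a formally smooth quotient
-/

set_option autoImplicit false
set_option linter.style.haveILetI false
universe u

open scoped TensorProduct
open KaehlerDifferential

noncomputable section

namespace Groth.Agent.OmegaLib

variable (k A B : Type u) [CommRing k] [CommRing A] [CommRing B] [Algebra k A] [Algebra k B]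
  [Algebra A B] [IsScalarTower k A B]

/-- For `A → B` surjective with kernel `I` and `B` formally smooth over `k`, `B ⊗[A] I` is a direct
summand of `B ⊗[A] Ω[A⁄k]`, with complement mapping isomorphically to `Ω[B⁄k]`. -/
theorem exists_retract_conormal (hs : Function.Surjective (algebraMap A B)) [Algebra.FormallySmooth k B] :
    ∃ (u : B ⊗[A] (RingHom.ker (algebraMap A B)) →ₗ[B] B ⊗[A] Ω[A⁄k])
      (v : B ⊗[A] Ω[A⁄k] →ₗ[B] B ⊗[A] (RingHom.ker (algebraMap A B))),
      v ∘ₗ u = LinearMap.id ∧ LinearMap.range u = LinearMap.ker (mapBaseChange k A B) := by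
  let I := RingHom.ker (algebraMap A B)
  let f := (IsScalarTower.toAlgHom k A B).kerSquareLift
  have hf : Function.Surjective f := fun y => by
    obtain ⟨x, rfl⟩ := hs y
    exact ⟨Ideal.Quotient.mk _ x, rfl⟩
  have hnil : IsNilpotent (RingHom.ker (f : (A ⧸ RingHom.ker (IsScalarTower.toAlgHom k A B).toRingHom ^ 2) →+* B)) :=
    ⟨2, by
      change RingHom.ker (IsScalarTower.toAlgHom k A B).kerSquareLift.toRingHom ^ 2 = 0
      rw [AlgHom.ker_kerSquareLift]; exact Ideal.cotangentIdeal_square _⟩
  obtain ⟨l, hl⟩ := (retractionKerCotangentToTensorEquivSection (R := k) hs).symm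
    ⟨Algebra.FormallySmooth.liftOfSurjective (AlgHom.id k B) f hf hnil,
      Algebra.FormallySmooth.comp_liftOfSurjective _ _ _ _⟩
  let u : B ⊗[A] I →ₗ[B] B ⊗[A] Ω[A⁄k] :=
    LinearMap.liftBaseChange B (kerCotangentToTensor k A B ∘ₗ I.toCotangent)
  let τ : I →ₗ[A] B ⊗[A] I := TensorProduct.mk A B I 1
  have hτ : I • (⊤ : Submodule A I) ≤ LinearMap.ker τ := by
    refine Submodule.smul_le.2 fun a ha n _ => ?_
    rw [LinearMap.mem_ker, map_smul, TensorProduct.mk_apply, TensorProduct.smul_tmul', Algebra.smul_def,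
      RingHom.mem_ker.1 ha, zero_mul, TensorProduct.zero_tmul]
  let σ : I.Cotangent →ₗ[A] B ⊗[A] I := Submodule.liftQ _ τ hτ
  have hone : ∀ t : B ⊗[A] I, ∃ i : I, (1 : B) ⊗ₜ[A] i = t := by
    intro t
    induction t using TensorProduct.induction_on with
    | zero => exact ⟨0, TensorProduct.tmul_zero _ _⟩
    | tmul b i =>
      obtain ⟨a, rfl⟩ := hs b
      exact ⟨a • i, by rw [TensorProduct.tmul_smul, TensorProduct.smul_tmul', Algebra.smul_def, mul_one]⟩
    | add s t hs ht =>
      obtain ⟨i, rfl⟩ := hs
      obtain ⟨i', rfl⟩ := ht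
      exact ⟨i + i', TensorProduct.tmul_add _ _ _⟩
  refine ⟨u, (σ ∘ₗ l).extendScalarsOfSurjective hs, ?_, ?_⟩
  · refine LinearMap.ext fun t => ?_
    obtain ⟨i, rfl⟩ := hone t
    show σ (l (u (1 ⊗ₜ i))) = _
    rw [LinearMap.liftBaseChange_tmul, one_smul, LinearMap.comp_apply]
    rw [show l (kerCotangentToTensor k A B (I.toCotangent i)) = I.toCotangent i from
      LinearMap.congr_fun hl _]
    rfl
  · ext z
    have h := SetLike.ext_iff.1 (range_kerCotangentToTensor k A B hs) z
    rw [Submodule.restrictScalars_mem] at h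
    rw [← h]
    constructor
    · rintro ⟨t, rfl⟩
      obtain ⟨i, rfl⟩ := hone t
      exact ⟨I.toCotangent i, by rw [LinearMap.liftBaseChange_tmul, one_smul]; rfl⟩
    · rintro ⟨c, rfl⟩
      obtain ⟨i, rfl⟩ := I.toCotangent_surjective c
      exact ⟨1 ⊗ₜ i, by rw [LinearMap.liftBaseChange_tmul, one_smul]; rfl⟩

theorem finite_projective_conormal (hs : Function.Surjective (algebraMap A B)) [Algebra.FormallySmooth k B]
    [Module.Finite A Ω[A⁄k]] [Module.Projective A Ω[A⁄k]] :
    Module.Finite B (B ⊗[A] (RingHom.ker (algebraMap A B))) ∧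
      Module.Projective B (B ⊗[A] (RingHom.ker (algebraMap A B))) := by
  obtain ⟨u, v, hvu, -⟩ := exists_retract_conormal k A B hs
  exact ⟨Module.Finite.of_surjective v fun t => ⟨u t, LinearMap.congr_fun hvu t⟩,
    Module.Projective.of_split u v hvu⟩

/-- The rank of the conormal module at a local ring. -/
theorem exists_basis_conormal (hs : Function.Surjective (algebraMap A B)) [Algebra.FormallySmooth k B]
    [IsLocalRing B] {m r : ℕ} (bA : Module.Basis (Fin m) A Ω[A⁄k]) (bB : Module.Basis (Fin r) B Ω[B⁄k]) :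
    ∃ n : ℕ, m = r + n ∧ Nonempty (Module.Basis (Fin n) B (B ⊗[A] (RingHom.ker (algebraMap A B)))) := by
  haveI : Module.Finite A Ω[A⁄k] := Module.Finite.of_basis bA
  haveI : Module.Free A Ω[A⁄k] := .of_basis bA
  haveI : Module.Free B Ω[B⁄k] := .of_basis bB
  haveI : Module.Finite B Ω[B⁄k] := Module.Finite.of_basis bB
  obtain ⟨hfin, hproj⟩ := finite_projective_conormal k A B hs
  obtain ⟨u, v, hvu, hrange⟩ := exists_retract_conormal k A B hs
  haveI : Module.Free B (B ⊗[A] (RingHom.ker (algebraMap A B))) := Module.free_of_flat_of_isLocalRing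
  have hsurj := mapBaseChange_surjective k A B hs
  obtain ⟨w, hw⟩ := Module.projective_lifting_property (mapBaseChange k A B) LinearMap.id hsurj
  have hbij : Function.Bijective (u.coprod w) := by
    constructor
    · rw [injective_iff_map_eq_zero]
      rintro ⟨s, t⟩ hst
      rw [LinearMap.coprod_apply] at hst
      have hu0 : mapBaseChange k A B (u s) = 0 := LinearMap.mem_ker.1 (hrange ▸ LinearMap.mem_range_self u s)
      have ht : t = 0 := by
        have h1 := congrArg (mapBaseChange k A B) hst
        rw [map_add, hu0, zero_add, map_zero] at h1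
        exact (LinearMap.congr_fun hw t).symm.trans h1
      subst ht
      rw [map_zero, add_zero] at hst
      have := LinearMap.congr_fun hvu s
      rw [LinearMap.comp_apply, hst, map_zero, LinearMap.id_apply] at this
      rw [← this]
      rfl
    · intro z
      obtain ⟨s, hs'⟩ : z - w (mapBaseChange k A B z) ∈ LinearMap.range u := by
        rw [hrange, LinearMap.mem_ker, map_sub, show mapBaseChange k A B (w _) = _ from LinearMap.congr_fun hw _,
          LinearMap.id_apply, sub_self]
      exact ⟨(s, mapBaseChange k A B z), by rw [LinearMap.coprod_apply, hs', sub_add_cancel]⟩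
  have h1 := (LinearEquiv.ofBijective _ hbij).finrank_eq
  rw [Module.finrank_prod, Module.finrank_eq_card_basis (bA.baseChange B),
    Module.finrank_eq_card_basis bB, Fintype.card_fin, Fintype.card_fin] at h1
  exact ⟨_, h1.symm.trans (add_comm _ _), ⟨Module.finBasis B _⟩⟩

end Groth.Agent.OmegaLib
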