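import Groth.Agent.FlatCrit.Tor
import Mathlib.RingTheory.Flat.Equalizer
import Mathlib.RingTheory.IsTensorProduct

/-!
# Powers of an ideal with flat graded pieces under base change
-/

set_option autoImplicit false
set_option linter.style.haveILetI false
universe u

open scoped TensorProduct
open Function

noncomputable section

namespace Groth.Agent.OmegaLib

theorem torVanish_flat {R M F : Type u} [CommRing R] [AddCommGroup M] [Module R M] [AddCommGroup F]
    [Module R F] [Module.Flat R F] : FlatCrit.TorVanish R M F := fun _ _ _ _ _ _ i p hip hp hi =>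
  (LinearMap.lTensor_inj_iff_rTensor_inj M i).1
    (LinearMap.lTensor_injective_of_exact_of_flat p hp i hi hip M)

/-- If the graded pieces of an ideal are flat over the base, so are the quotients by its powers. -/
theorem torVanish_quot_pow {k A : Type u} [CommRing k] [CommRing A] [Algebra k A] (I : Ideal A) (n : ℕ)
    (h : ∀ j < n, Module.Flat k ((A ⧸ I) ⊗[A] ↥(I ^ j)))
    (M : Type u) [AddCommGroup M] [Module k M] : FlatCrit.TorVanish k M (A ⧸ I ^ n) := by
  induction n with
  | zero =>
    haveI : Subsingleton (A ⧸ I ^ 0) := Ideal.Quotient.subsingleton_iff.2 (by rw [pow_zero, Ideal.one_eq_top])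
    exact torVanish_flat
  | succ n ih =>
    let S : Submodule A A := I ^ (n + 1)
    let T : Submodule A A := I ^ n
    have hST : S ≤ T := Ideal.pow_le_pow_right (Nat.le_succ n)
    let N' : Submodule A (A ⧸ S) := T.map S.mkQ
    refine FlatCrit.TorVanish.extension (N'.restrictScalars k) ?_ ?_
    · let g : ↥T →ₗ[A] A ⧸ S := S.mkQ ∘ₗ T.subtype
      have hk : LinearMap.ker g = I • ⊤ := by
        refine Submodule.map_injective_of_injective T.subtype_injective ?_
        rw [Submodule.map_smul'', Submodule.map_top, Submodule.range_subtype, LinearMap.ker_comp,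
          Submodule.ker_mkQ, Submodule.map_comap_eq, Submodule.range_subtype, inf_eq_right.2 hST,
          smul_eq_mul]
        exact pow_succ' I n
      have hr : LinearMap.range g = N' := by rw [LinearMap.range_comp, Submodule.range_subtype]
      let e : ((A ⧸ I) ⊗[A] ↥T) ≃ₗ[A] N' :=
        (TensorProduct.quotTensorEquivQuotSMul ↥T I).trans
          ((Submodule.quotEquivOfEq _ _ hk.symm).trans (g.quotKerEquivRange.trans (LinearEquiv.ofEq _ _ hr)))
      haveI := h n (Nat.lt_succ_self n)
      exact torVanish_flat.of_linearEquiv ((e.restrictScalars k).trans ((N'.restrictScalarsEquiv k A (A ⧸ S)).symm.restrictScalars k))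
    · refine (ih fun j hj => h j (hj.trans (Nat.lt_succ_self n))).of_linearEquiv ?_
      exact (((Submodule.quotientQuotientEquivQuotient S T hST).restrictScalars k).symm).trans
        (Submodule.Quotient.restrictScalarsEquiv k N').symm

/-- Base change of `I^n → A` stays injective. -/
theorem injective_liftBaseChange_pow {k k' R P A A' : Type u} [CommRing k] [CommRing k'] [CommRing R]
    [CommRing P] [CommRing A] [CommRing A'] [Algebra k k'] [Algebra k R] [Algebra k P] [Algebra k' P]
    [Algebra R P] [IsScalarTower k k' P] [IsScalarTower k R P] [Algebra.IsPushout k k' R P]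
    [Algebra R A] [Algebra k A] [IsScalarTower k R A] [Algebra P A'] [Algebra R A'] [Algebra A A']
    [IsScalarTower R P A'] [IsScalarTower R A A'] [Module.Flat P A']
    (S : Submonoid R) [IsLocalization S A] (I : Ideal A) (n : ℕ)
    (h : ∀ j < n, Module.Flat k ((A ⧸ I) ⊗[A] ↥(I ^ j))) :
    Injective (LinearMap.liftBaseChange A' ((Algebra.linearMap A A').comp (Submodule.subtype (I ^ n)))) := by
  let T : Submodule A A := I ^ n
  let sub : ↥T →ₗ[R] A := T.subtype.restrictScalars R
  have h1 : Injective ((sub.restrictScalars k).lTensor k') := by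
    rw [LinearMap.lTensor_inj_iff_rTensor_inj]
    refine torVanish_quot_pow I n h k' _ (T.mkQ.restrictScalars k) ?_ T.mkQ_surjective T.subtype_injective
    exact LinearMap.exact_subtype_mkQ T
  have h2 : Injective (sub.lTensor P) := by
    let eT := Algebra.IsPushout.cancelBaseChange k k' R P ↥T
    let eA := Algebra.IsPushout.cancelBaseChange k k' R P A
    have hnat : ∀ x, sub.lTensor P (eT.symm x) = eA.symm ((sub.restrictScalars k).lTensor k' x) := by
      intro x
      induction x using TensorProduct.induction_on with
      | zero => simp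
      | add a b ha hb => simp only [map_add, ha, hb]
      | tmul s m => simp [eT, eA, Algebra.IsPushout.cancelBaseChange_symm_tmul]
    intro a b hab
    obtain ⟨a, rfl⟩ := eT.symm.surjective a
    obtain ⟨b, rfl⟩ := eT.symm.surjective b
    rw [hnat, hnat] at hab
    exact congrArg eT.symm (h1 (eA.symm.injective hab))
  have h3 : Injective (sub.lTensor A') := by
    let eT := TensorProduct.AlgebraTensorModule.cancelBaseChange R P P A' ↥T
    let eA := TensorProduct.AlgebraTensorModule.cancelBaseChange R P P A' A
    let sub' : P ⊗[R] ↥T →ₗ[P] P ⊗[R] A := sub.baseChange P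
    have hi : Injective (sub'.lTensor A') := Module.Flat.lTensor_preserves_injective_linearMap sub' h2
    have hnat : ∀ x, sub.lTensor A' (eT x) = eA (sub'.lTensor A' x) := by
      intro x
      induction x using TensorProduct.induction_on with
      | zero => simp
      | add a b ha hb => simp only [map_add, ha, hb]
      | tmul a y =>
        induction y using TensorProduct.induction_on with
        | zero => simp
        | add y z hy hz => simp only [TensorProduct.tmul_add, map_add, hy, hz]
        | tmul p m => simp [eT, eA, sub']
    intro a b hab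
    obtain ⟨a, rfl⟩ := eT.surjective a
    obtain ⟨b, rfl⟩ := eT.surjective b
    rw [hnat, hnat] at hab
    exact congrArg eT (hi (eA.injective hab))
  let μ : A' ⊗[R] A →ₗ[A'] A' := LinearMap.liftBaseChange A' ((Algebra.linearMap A A').restrictScalars R)
  have hμ : ∀ t, t = μ t ⊗ₜ[R] (1 : A) := by
    intro t
    induction t using TensorProduct.induction_on with
    | zero => simp
    | add a b ha hb => rw [map_add, TensorProduct.add_tmul, ← ha, ← hb]
    | tmul a x =>
      obtain ⟨r, s, rfl⟩ := IsLocalization.exists_mk'_eq S x
      have hu : IsUnit (algebraMap R A' s) := by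
        rw [IsScalarTower.algebraMap_apply R A A']
        exact (IsLocalization.map_units A s).map _
      rw [show μ (a ⊗ₜ[R] IsLocalization.mk' A r s) = a • algebraMap A A' (IsLocalization.mk' A r s) from
        LinearMap.liftBaseChange_tmul _ _ _ _]
      obtain ⟨w, hw⟩ := hu.exists_right_inv
      have e1 : a = (s : R) • (w * a) := by
        rw [Algebra.smul_def, ← mul_assoc, hw, one_mul]
      conv_lhs => rw [e1, TensorProduct.smul_tmul, Algebra.smul_def, IsLocalization.mk'_spec',
        Algebra.algebraMap_eq_smul_one, ← TensorProduct.smul_tmul]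
      congr 1
      rw [smul_eq_mul, Algebra.smul_def, IsScalarTower.algebraMap_apply R A A' r,
        ← IsLocalization.mk'_spec' A r s, map_mul, ← IsScalarTower.algebraMap_apply R A A']
      calc _ = (algebraMap R A' s * w) * a * algebraMap A A' (IsLocalization.mk' A r s) := by ring
        _ = _ := by rw [hw, one_mul]
  let π : A' ⊗[R] ↥T →ₗ[A'] A' ⊗[A] ↥T :=
    LinearMap.liftBaseChange A' ((TensorProduct.mk A A' ↥T 1).restrictScalars R)
  have hπ : Surjective π := by
    intro t
    induction t using TensorProduct.induction_on with
    | zero => exact ⟨0, map_zero _⟩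
    | add a b ha hb =>
      obtain ⟨a, rfl⟩ := ha
      obtain ⟨b, rfl⟩ := hb
      exact ⟨a + b, map_add _ _ _⟩
    | tmul a m =>
      refine ⟨a ⊗ₜ m, (LinearMap.liftBaseChange_tmul _ _ _ _).trans ?_⟩
      show a • ((1 : A') ⊗ₜ[A] m) = _
      rw [TensorProduct.smul_tmul', smul_eq_mul, mul_one]
  have hcomm : ∀ x, LinearMap.liftBaseChange A' ((Algebra.linearMap A A').comp T.subtype) (π x) =
      μ (sub.lTensor A' x) := by
    intro x
    induction x using TensorProduct.induction_on with
    | zero => simp
    | add a b ha hb => simp only [map_add, ha, hb]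
    | tmul a m => simp [π, μ, sub]
  intro a b hab
  obtain ⟨a, rfl⟩ := hπ a
  obtain ⟨b, rfl⟩ := hπ b
  rw [hcomm, hcomm] at hab
  refine congrArg π (h3 ?_)
  rw [hμ (sub.lTensor A' a), hμ (sub.lTensor A' b), hab]

end Groth.Agent.OmegaLib
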