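import Mathlib.RingTheory.Kaehler.TensorProduct
import Mathlib.RingTheory.Etale.Kaehler
import Mathlib.RingTheory.IsTensorProduct

/-!
# Differentials of a localization of a tensor product
-/

set_option autoImplicit false
set_option linter.style.haveILetI false
universe u

open scoped TensorProduct
open KaehlerDifferential

noncomputable section

namespace Groth.Agent.OmegaLib

/-- The component of a differential along the right factor of a pushout. -/
theorem exists_component (R A C D : Type u) [CommRing R] [CommRing A] [CommRing C] [CommRing D]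
    [Algebra R A] [Algebra R C] [Algebra R D] [Algebra A D] [Algebra C D] [IsScalarTower R A D]
    [IsScalarTower R C D] [Algebra.IsPushout R A C D] :
    ∃ r : Ω[D⁄R] →ₗ[D] D ⊗[C] Ω[C⁄R],
      (∀ c : C, r (KaehlerDifferential.D R D (algebraMap C D c)) = 1 ⊗ₜ KaehlerDifferential.D R C c) ∧
      ∀ a : A, r (KaehlerDifferential.D R D (algebraMap A D a)) = 0 := by
  refine ⟨(tensorKaehlerEquiv R A C D).symm.toLinearMap ∘ₗ map R A D D, fun c => ?_, fun a => ?_⟩
  · rw [LinearMap.comp_apply, map_D, LinearEquiv.coe_coe, LinearEquiv.symm_apply_eq,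
      tensorKaehlerEquiv_tmul_D, one_smul]
    rfl
  · rw [LinearMap.comp_apply, map_D]
    show (tensorKaehlerEquiv R A C D).symm
      (KaehlerDifferential.D A D (algebraMap D D (algebraMap A D a))) = 0
    rw [Algebra.algebraMap_self, RingHom.id_apply, Derivation.map_algebraMap, map_zero]

/-- `Ω[B⁄R] = B ⊗ Ω[A'⁄R] ⊕ B ⊗ Ω[C'⁄R]` for a localization `B` of `A ⊗ C` under localizations `A'`, `C'`. -/
theorem bijective_coprod_mapBaseChange (R A C D : Type u) {A' C' B : Type u} [CommRing R] [CommRing A]
    [CommRing C] [CommRing D] [CommRing A'] [CommRing C'] [CommRing B]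
    [Algebra R A] [Algebra R C] [Algebra R D] [Algebra A D] [Algebra C D] [IsScalarTower R A D]
    [IsScalarTower R C D] [Algebra.IsPushout R A C D]
    [Algebra R B] [Algebra D B] [IsScalarTower R D B] [Algebra A B] [Algebra C B]
    [IsScalarTower A D B] [IsScalarTower C D B] (M : Submonoid D) [IsLocalization M B]
    [Algebra R A'] [Algebra A A'] [Algebra A' B] [IsScalarTower R A A'] [IsScalarTower A A' B]
    [IsScalarTower R A' B] (MA : Submonoid A) [IsLocalization MA A']
    [Algebra R C'] [Algebra C C'] [Algebra C' B] [IsScalarTower R C C'] [IsScalarTower C C' B]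
    [IsScalarTower R C' B] (MC : Submonoid C) [IsLocalization MC C'] :
    Function.Bijective ((mapBaseChange R A' B).coprod (mapBaseChange R C' B)) := by
  haveI : Algebra.IsPushout R C A D := Algebra.IsPushout.symm inferInstance
  haveI : Algebra.FormallyEtale D B := .of_isLocalization M
  obtain ⟨rC, hrC, hrC'⟩ := exists_component R A C D
  obtain ⟨rA, hrA, hrA'⟩ := exists_component R C A D
  let P := (B ⊗[A'] Ω[A'⁄R]) × (B ⊗[C'] Ω[C'⁄R])
  let Φ : P →ₗ[B] Ω[B⁄R] := (mapBaseChange R A' B).coprod (mapBaseChange R C' B)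
  let lA : D ⊗[A] Ω[A⁄R] →ₗ[D] B ⊗[A'] Ω[A'⁄R] :=
    LinearMap.liftBaseChange D ((((TensorProduct.mk A' B Ω[A'⁄R] 1).restrictScalars A) ∘ₗ map R R A A') :
      Ω[A⁄R] →ₗ[A] B ⊗[A'] Ω[A'⁄R])
  let lC : D ⊗[C] Ω[C⁄R] →ₗ[D] B ⊗[C'] Ω[C'⁄R] :=
    LinearMap.liftBaseChange D ((((TensorProduct.mk C' B Ω[C'⁄R] 1).restrictScalars C) ∘ₗ map R R C C') :
      Ω[C⁄R] →ₗ[C] B ⊗[C'] Ω[C'⁄R])
  let g : Ω[D⁄R] →ₗ[D] P := (lA ∘ₗ rA).prod (lC ∘ₗ rC)
  have hgA : ∀ a : A, g (KaehlerDifferential.D R D (algebraMap A D a)) =
      ((1 : B) ⊗ₜ[A'] KaehlerDifferential.D R A' (algebraMap A A' a), 0) := by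
    intro a
    refine Prod.ext ?_ ?_
    · show lA (rA _) = _
      rw [hrA, LinearMap.liftBaseChange_tmul, LinearMap.comp_apply, map_D, one_smul,
        LinearMap.restrictScalars_apply, TensorProduct.mk_apply]
    · show lC (rC _) = _
      rw [hrC', map_zero]
  have hgC : ∀ c : C, g (KaehlerDifferential.D R D (algebraMap C D c)) =
      (0, (1 : B) ⊗ₜ[C'] KaehlerDifferential.D R C' (algebraMap C C' c)) := by
    intro c
    refine Prod.ext ?_ ?_
    · show lA (rA _) = _
      rw [hrA', map_zero]
    · show lC (rC _) = _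
      rw [hrC, LinearMap.liftBaseChange_tmul, LinearMap.comp_apply, map_D, one_smul,
        LinearMap.restrictScalars_apply, TensorProduct.mk_apply]
  have hbc := KaehlerDifferential.isBaseChange_of_formallyEtale R D B
  let Ψ : Ω[B⁄R] →ₗ[B] P := hbc.lift g
  have hΨ : ∀ t : D, Ψ (KaehlerDifferential.D R B (algebraMap D B t)) = g (KaehlerDifferential.D R D t) :=
    fun t => (congrArg Ψ (map_D R R D B t).symm).trans (hbc.lift_eq g _)
  have hΦ : ∀ v w, Φ (v, w) = mapBaseChange R A' B v + mapBaseChange R C' B w :=
    fun v w => LinearMap.coprod_apply _ _ (v, w)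
  have hΦA : ∀ a : A, Φ ((1 : B) ⊗ₜ[A'] KaehlerDifferential.D R A' (algebraMap A A' a), 0) =
      KaehlerDifferential.D R B (algebraMap D B (algebraMap A D a)) := by
    intro a
    rw [hΦ, map_zero, add_zero, mapBaseChange_tmul, one_smul, map_D,
      ← IsScalarTower.algebraMap_apply A A' B, ← IsScalarTower.algebraMap_apply A D B]
  have hΦC : ∀ c : C, Φ (0, (1 : B) ⊗ₜ[C'] KaehlerDifferential.D R C' (algebraMap C C' c)) =
      KaehlerDifferential.D R B (algebraMap D B (algebraMap C D c)) := by
    intro c
    rw [hΦ, map_zero, zero_add, mapBaseChange_tmul, one_smul, map_D,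
      ← IsScalarTower.algebraMap_apply C C' B, ← IsScalarTower.algebraMap_apply C D B]
  -- `Φ ∘ Ψ = id`
  have hgen : ∀ t : D, Φ (g (KaehlerDifferential.D R D t)) =
      KaehlerDifferential.D R B (algebraMap D B t) := by
    intro t
    refine (Algebra.IsPushout.out (R := R) (S := A) (R' := C) (S' := D)).inductionOn t
      (fun t => Φ (g (KaehlerDifferential.D R D t)) = KaehlerDifferential.D R B (algebraMap D B t))
      ?_ ?_ ?_ ?_
    · simp
    · intro c
      show Φ (g (KaehlerDifferential.D R D (algebraMap C D c))) =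
        KaehlerDifferential.D R B (algebraMap D B (algebraMap C D c))
      rw [hgC, hΦC]
    · intro a t ht
      rw [Algebra.smul_def, Derivation.leibniz, map_add, map_smul, map_smul, map_add,
        LinearMap.map_smul_of_tower, LinearMap.map_smul_of_tower, ht, hgA, hΦA, map_mul,
        Derivation.leibniz, algebraMap_smul, algebraMap_smul]
      simp only [algebraMap_smul]
    · intro t t' ht ht'
      simp only [map_add, ht, ht']
  have hleft : ∀ z, Φ (Ψ z) = z := by
    suffices Φ ∘ₗ Ψ = LinearMap.id from fun z => LinearMap.congr_fun this z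
    refine LinearMap.ext_on_range (span_range_map_derivation_of_isLocalization R D B M) fun t => ?_
    rw [LinearMap.comp_apply, LinearMap.id_apply, Function.comp_apply, map_D, hΨ, hgen]
  -- `Ψ ∘ Φ = id`
  have hA : ∀ (w : Ω[A'⁄R]) (b : B), Ψ (mapBaseChange R A' B (b ⊗ₜ w)) = (b ⊗ₜ w, 0) := by
    intro w
    induction (span_range_map_derivation_of_isLocalization R A A' MA ▸ Submodule.mem_top :
        w ∈ Submodule.span A' (Set.range <| map R R A A' ∘ KaehlerDifferential.D R A))
        using Submodule.span_induction with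
    | mem w hw =>
      intro b
      obtain ⟨a, rfl⟩ := hw
      rw [Function.comp_apply, map_D, mapBaseChange_tmul, map_smul, map_D,
        ← IsScalarTower.algebraMap_apply A A' B, IsScalarTower.algebraMap_apply A D B, hΨ, hgA,
        Prod.smul_mk, smul_zero, TensorProduct.smul_tmul', smul_eq_mul, mul_one]
    | zero => intro b; rw [TensorProduct.tmul_zero, map_zero, map_zero]; rfl
    | add v w _ _ hv hw =>
      intro b; rw [TensorProduct.tmul_add, map_add, map_add, hv b, hw b]; exact Prod.ext (by first | rfl | exact (add_zero _)) (by first | rfl | exact (add_zero _))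
    | smul a w _ hw => intro b; rw [← TensorProduct.smul_tmul]; exact hw _
  have hC : ∀ (w : Ω[C'⁄R]) (b : B), Ψ (mapBaseChange R C' B (b ⊗ₜ w)) = (0, b ⊗ₜ w) := by
    intro w
    induction (span_range_map_derivation_of_isLocalization R C C' MC ▸ Submodule.mem_top :
        w ∈ Submodule.span C' (Set.range <| map R R C C' ∘ KaehlerDifferential.D R C))
        using Submodule.span_induction with
    | mem w hw =>
      intro b
      obtain ⟨c, rfl⟩ := hw
      rw [Function.comp_apply, map_D, mapBaseChange_tmul, map_smul, map_D,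
        ← IsScalarTower.algebraMap_apply C C' B, IsScalarTower.algebraMap_apply C D B, hΨ, hgC,
        Prod.smul_mk, smul_zero, TensorProduct.smul_tmul', smul_eq_mul, mul_one]
    | zero => intro b; rw [TensorProduct.tmul_zero, map_zero, map_zero]; rfl
    | add v w _ _ hv hw =>
      intro b; rw [TensorProduct.tmul_add, map_add, map_add, hv b, hw b]; exact Prod.ext (by first | rfl | exact (add_zero _)) (by first | rfl | exact (add_zero _))
    | smul a w _ hw => intro b; rw [← TensorProduct.smul_tmul]; exact hw _
  have hA' : ∀ u, Ψ (mapBaseChange R A' B u) = (u, 0) := by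
    intro u
    induction u using TensorProduct.induction_on with
    | zero => rw [map_zero, map_zero]; rfl
    | tmul b w => exact hA w b
    | add v w hv hw => rw [map_add, map_add, hv, hw]; exact Prod.ext (by first | rfl | exact (add_zero _)) (by first | rfl | exact (add_zero _))
  have hC' : ∀ u, Ψ (mapBaseChange R C' B u) = (0, u) := by
    intro u
    induction u using TensorProduct.induction_on with
    | zero => rw [map_zero, map_zero]; rfl
    | tmul b w => exact hC w b
    | add v w hv hw => rw [map_add, map_add, hv, hw]; exact Prod.ext (by first | rfl | exact (add_zero _)) (by first | rfl | exact (add_zero _))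
  refine Function.bijective_iff_has_inverse.2 ⟨Ψ, fun ⟨v, w⟩ => ?_, hleft⟩
  show Ψ (Φ (v, w)) = _
  rw [hΦ, map_add, hA', hC']
  exact Prod.ext (add_zero _) (zero_add _)

end Groth.Agent.OmegaLib
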