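import Groth.Prelude.Def_DerSch
import Groth.Agent.OmegaLib.Sections
import Groth.Agent.EGA43.QcohFP
import Mathlib.RingTheory.Etale.Kaehler

/-!
# Stalks of a sheaf of differentials

For a universal derivation `d : O_X → Ω'` relative to `f : X ⟶ Y`, a point `x` and an affine open `W`
containing `f x`, the stalk `Ω'_x` is `Ω[O_{X,x}⁄Γ(Y,W)]`, the germ of `d s` corresponding to the
differential of the germ of `s`.
-/

set_option autoImplicit false
set_option backward.isDefEq.respectTransparency.types false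
set_option backward.isDefEq.respectTransparency false
universe u

open CategoryTheory AlgebraicGeometry TopologicalSpace Opposite

noncomputable section

namespace Groth.Agent.OmegaLib

variable {X Y : Scheme.{u}} {f : X ⟶ Y}

/-- The germ of a section of a module, in the stalk module. -/
def gm (M : X.Modules) (U : X.Opens) (x : X) (hx : x ∈ U) (s : Γ(M, U)) :
    (DerSch.stalkFunctor X x).obj M :=
  M.presheaf.germ U x hx s

section gm
variable (M : X.Modules) {U : X.Opens} {x : X} (hx : x ∈ U)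

theorem gm_add (s t : Γ(M, U)) : gm M U x hx (s + t) = gm M U x hx s + gm M U x hx t :=
  map_add (M.presheaf.germ U x hx).hom s t

theorem gm_zero : gm M U x hx 0 = 0 := map_zero (M.presheaf.germ U x hx).hom

theorem gm_res {V : X.Opens} (h : V ≤ U) (hxV : x ∈ V) (s : Γ(M, U)) :
    gm M V x hxV (M.presheaf.map (homOfLE h).op s) = gm M U x hx s :=
  M.presheaf.germ_res_apply (homOfLE h) x hxV s

theorem gm_smul (r : Γ(X, U)) (s : Γ(M, U)) :
    gm M U x hx (r • s) = X.presheaf.germ U x hx r • gm M U x hx s :=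
  PresheafOfModules.germ_smul (R := X.presheaf) M.val x U hx r s

theorem exists_gm (z : (DerSch.stalkFunctor X x).obj M) :
    ∃ (V : X.Opens) (hV : x ∈ V) (s : Γ(M, V)), gm M V x hV s = z :=
  M.presheaf.exists_germ_eq (x := x) (show ↑(TopCat.Presheaf.stalk M.presheaf x) from z)

theorem map_gm {N : X.Modules} (φ : M ⟶ N) (s : Γ(M, U)) :
    (DerSch.stalkFunctor X x).map φ (gm M U x hx s) = gm N U x hx (φ.app U s) :=
  DerSch.stalkFunctor_map_germ x φ U hx s

end gm

variable {Ω' : X.Modules} (d : OmegaSh.Der f Ω')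

/-- The derivation on stalks. -/
theorem exists_stalkDer (x : X) : ∃ δ : X.presheaf.stalk x →+ (DerSch.stalkFunctor X x).obj Ω',
    (∀ (U : X.Opens) (hx : x ∈ U) (s : Γ(X, U)), δ (X.presheaf.germ U x hx s) = gm Ω' U x hx (d.app U s)) ∧
    ∀ a b, δ (a * b) = a • δ b + b • δ a := by
  choose U hU s hs using fun z : X.presheaf.stalk x => X.presheaf.exists_germ_eq (x := x) z
  have key : ∀ (V : X.Opens) (hx : x ∈ V) (t : Γ(X, V)),
      gm Ω' (U (X.presheaf.germ V x hx t)) x (hU _) (d.app _ (s (X.presheaf.germ V x hx t))) =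
        gm Ω' V x hx (d.app V t) := by
    intro V hx t
    obtain ⟨W, hxW, i, j, hij⟩ := X.presheaf.germ_eq x (hU _) hx _ _ (hs (X.presheaf.germ V x hx t))
    rw [← gm_res Ω' (hU _) i.le hxW, ← gm_res Ω' hx j.le hxW, ← app_map d i.le, ← app_map d j.le]
    exact congrArg (fun r => gm Ω' W x hxW (d.app W r)) hij
  have common : ∀ a b : X.presheaf.stalk x, ∃ (V : X.Opens) (hV : x ∈ V) (p q : Γ(X, V)),
      X.presheaf.germ V x hV p = a ∧ X.presheaf.germ V x hV q = b := fun a b =>
    ⟨U a ⊓ U b, ⟨hU a, hU b⟩, X.presheaf.map (homOfLE inf_le_left).op (s a),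
      X.presheaf.map (homOfLE inf_le_right).op (s b),
      (X.presheaf.germ_res_apply _ x _ _).trans (hs a), (X.presheaf.germ_res_apply _ x _ _).trans (hs b)⟩
  refine ⟨AddMonoidHom.mk' (fun z => gm Ω' (U z) x (hU z) (d.app (U z) (s z))) fun a b => ?_,
    fun V hx t => key V hx t, fun a b => ?_⟩
  · obtain ⟨V, hV, p, q, rfl, rfl⟩ := common a b
    rw [← map_add, key, key, key, map_add, gm_add]
  · obtain ⟨V, hV, p, q, rfl, rfl⟩ := common a b
    simp only [AddMonoidHom.mk'_apply]
    rw [← map_mul, key, key, key, app_mul, gm_add, gm_smul, gm_smul]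

variable {d}

/-- The stalk of a sheaf of differentials is the module of differentials of the local ring. -/
theorem exists_stalk_equiv (hd : OmegaSh.IsUniversal d) {W : Y.Opens} (hW : IsAffineOpen W) (x : X)
    (hxW : f x ∈ W) [Algebra Γ(Y, W) (X.presheaf.stalk x)]
    (hal : ∀ r, algebraMap Γ(Y, W) (X.presheaf.stalk x) r = f.stalkMap x (Y.presheaf.germ W (f x) hxW r)) :
    ∃ E : Ω[X.presheaf.stalk x⁄Γ(Y, W)] ≃ₗ[X.presheaf.stalk x] (DerSch.stalkFunctor X x).obj Ω',
      ∀ (U : X.Opens) (hx : x ∈ U) (s : Γ(X, U)),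
        E (KaehlerDifferential.D Γ(Y, W) _ (X.presheaf.germ U x hx s)) = gm Ω' U x hx (d.app U s) := by
  let O := X.presheaf.stalk x
  let M : Type u := (DerSch.stalkFunctor X x).obj Ω'
  obtain ⟨δ₀, hδ, hmul⟩ := exists_stalkDer d x
  letI : Module Γ(Y, W) M := Module.compHom M (algebraMap Γ(Y, W) O)
  haveI : IsScalarTower Γ(Y, W) O M := IsScalarTower.of_algebraMap_smul fun _ _ => rfl
  have hzero : ∀ r, δ₀ (algebraMap Γ(Y, W) O r) = 0 := by
    intro r
    rw [hal, Scheme.Hom.germ_stalkMap_apply, hδ, app_app, gm_zero]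
  let δ : Derivation Γ(Y, W) O M := Derivation.mk'
    { toFun := δ₀
      map_add' := map_add δ₀
      map_smul' := fun r b => by
        rw [Algebra.smul_def, hmul, hzero, smul_zero, add_zero, RingHom.id_apply]
        rfl }
    hmul
  let L : Ω[O⁄Γ(Y, W)] →ₗ[O] M := δ.liftKaehlerDifferential
  have hL : ∀ b : O, L (KaehlerDifferential.D Γ(Y, W) O b) = δ₀ b := δ.liftKaehlerDifferential_comp_D
  -- an affine neighbourhood
  obtain ⟨U, hU, hxU, hUW⟩ := Opens.isBasis_iff_nbhd.mp X.isBasis_affineOpens (show x ∈ f ⁻¹ᵁ W from hxW)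
  letI := (f.appLE W U hUW).hom.toAlgebra
  obtain ⟨ψ, hψ⟩ := exists_sections_equiv hd hUW hW hU
  letI : Algebra Γ(X, U) O := (X.presheaf.germ U x hxU).hom.toAlgebra
  letI : Module Γ(X, U) M := Module.compHom M (X.presheaf.germ U x hxU).hom
  haveI : IsScalarTower Γ(X, U) O M := IsScalarTower.of_algebraMap_smul fun _ _ => rfl
  haveI : IsScalarTower Γ(Y, W) Γ(X, U) O := IsScalarTower.of_algebraMap_eq fun r => by
    change _ = X.presheaf.germ U x hxU (f.appLE W U hUW r)
    rw [hal, Scheme.Hom.germ_stalkMap_apply, Scheme.Hom.appLE, CommRingCat.comp_apply]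
    exact (X.presheaf.germ_res_apply _ x hxU _).symm
  haveI : IsLocalization (hU.primeIdealOf ⟨x, hxU⟩).asIdeal.primeCompl O := hU.isLocalization_stalk ⟨x, hxU⟩
  haveI := isQCoh_of_isUniversal hd
  let gl : Γ(Ω', U) →ₗ[Γ(X, U)] M :=
    { toFun := gm Ω' U x hxU
      map_add' := gm_add Ω' hxU
      map_smul' := fun r s => gm_smul Ω' hxU r s }
  haveI : IsLocalizedModule (hU.primeIdealOf ⟨x, hxU⟩).asIdeal.primeCompl gl :=
    EGA43.QcohFP.isLocalizedModule_germ Ω' hU hxU gl fun _ => rfl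
  let μ := KaehlerDifferential.map Γ(Y, W) Γ(Y, W) Γ(X, U) O
  haveI : IsLocalizedModule (hU.primeIdealOf ⟨x, hxU⟩).asIdeal.primeCompl μ :=
    KaehlerDifferential.isLocalizedModule_map _ _ _ _
  haveI : IsLocalizedModule (hU.primeIdealOf ⟨x, hxU⟩).asIdeal.primeCompl (gl ∘ₗ ψ.toLinearMap) :=
    IsLocalizedModule.of_linearEquiv_right _ _ _
  let e := IsLocalizedModule.linearEquiv (hU.primeIdealOf ⟨x, hxU⟩).asIdeal.primeCompl μ
    (gl ∘ₗ ψ.toLinearMap)
  have hLe : L.restrictScalars Γ(X, U) = e.toLinearMap := by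
    refine IsLocalizedModule.ext (hU.primeIdealOf ⟨x, hxU⟩).asIdeal.primeCompl μ
      (IsLocalizedModule.map_units (gl ∘ₗ ψ.toLinearMap)) ?_
    refine LinearMap.ext_on_range (KaehlerDifferential.span_range_derivation Γ(Y, W) Γ(X, U)) fun b => ?_
    rw [LinearMap.comp_apply, LinearMap.comp_apply, LinearEquiv.coe_coe, IsLocalizedModule.linearEquiv_apply]
    show L (μ _) = gm Ω' U x hxU (ψ _)
    rw [KaehlerDifferential.map_D, hL, hψ]
    exact hδ U hxU b
  have hbij : Function.Bijective L := by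
    have h1 : (L : Ω[O⁄Γ(Y, W)] → M) = e := congrArg DFunLike.coe hLe
    rw [h1]; exact e.bijective
  exact ⟨LinearEquiv.ofBijective L hbij, fun V hV s => (hL _).trans (hδ V hV s)⟩

end Groth.Agent.OmegaLib
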