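import Mathlib.AlgebraicGeometry.Modules.Tilde
import Mathlib.RingTheory.Etale.Kaehler

/-!
# The derivation `O → Ω~` on an affine scheme

On `Spec B`, for an `A`-algebra `B`, the maps `δ_W : O(W) → (Ω[B⁄A])~(W)`.
-/

set_option autoImplicit false
set_option backward.isDefEq.respectTransparency.types false
set_option backward.isDefEq.respectTransparency false
universe u

open CategoryTheory AlgebraicGeometry TopologicalSpace Opposite

noncomputable section

namespace Groth.Agent.OmegaLib

variable (A : Type u) {B : Type u} [CommRing A] [CommRing B] [Algebra A B]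

/-- The localized derivation at a prime. -/
def locDer (p : Ideal B) [p.IsPrime] :
    Localization.AtPrime p →+ LocalizedModule p.primeCompl (Ω[B⁄A]) :=
  ((IsLocalizedModule.iso p.primeCompl
      (KaehlerDifferential.map A A B (Localization.AtPrime p))).symm.toAddMonoidHom).comp
    (KaehlerDifferential.D A (Localization.AtPrime p)).toLinearMap.toAddMonoidHom

theorem locDer_algebraMap (p : Ideal B) [p.IsPrime] (b : B) :
    locDer A p (algebraMap B _ b) = LocalizedModule.mkLinearMap p.primeCompl _ (KaehlerDifferential.D A B b) := by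
  show (IsLocalizedModule.iso p.primeCompl _).symm (KaehlerDifferential.D A _ (algebraMap B _ b)) = _
  rw [← KaehlerDifferential.map_D A A B (Localization.AtPrime p) b]
  exact IsLocalizedModule.iso_symm_apply' p.primeCompl _ _ (KaehlerDifferential.D A B b) 1 (one_smul _ _)

theorem locDer_mul (p : Ideal B) [p.IsPrime] (x y : Localization.AtPrime p) :
    locDer A p (x * y) = x • locDer A p y + y • locDer A p x := by
  let e := ((IsLocalizedModule.iso p.primeCompl
      (KaehlerDifferential.map A A B (Localization.AtPrime p))).symm.toLinearMap).extendScalarsOfIsLocalization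
        p.primeCompl (Localization.AtPrime p)
  show e (KaehlerDifferential.D A (Localization.AtPrime p) (x * y)) = x • e _ + y • e _
  rw [Derivation.leibniz, map_add, map_smul, map_smul]
  rfl

theorem locDer_mk (p : Ideal B) [p.IsPrime] (b : B) (g : p.primeCompl) :
    locDer A p (Localization.mk b g) = LocalizedModule.mk
      ((g : B) • KaehlerDifferential.D A B b - b • KaehlerDifferential.D A B (g : B)) (g * g) := by
  let L := Localization.AtPrime p
  have hu : IsUnit (algebraMap B L (g : B)) := IsLocalization.map_units L g
  have h : Localization.mk b g * algebraMap B L (g : B) = algebraMap B L b := by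
    rw [Localization.mk_eq_mk']; exact IsLocalization.mk'_spec L b g
  have h1 := congrArg (locDer A p) h
  rw [locDer_mul, locDer_algebraMap, locDer_algebraMap, LocalizedModule.mkLinearMap_apply,
    LocalizedModule.mkLinearMap_apply, LocalizedModule.mk_smul_mk, algebraMap_smul,
    mul_one, ← eq_sub_iff_add_eq'] at h1
  refine IsLocalizedModule.smul_injective (LocalizedModule.mkLinearMap p.primeCompl _) g ?_
  show g • locDer A p (Localization.mk b g) = g • _
  rw [Submonoid.smul_def, h1, Submonoid.smul_def, LocalizedModule.smul'_mk, sub_eq_add_neg,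
    ← LocalizedModule.mk_neg, LocalizedModule.mk_add_mk]
  refine LocalizedModule.mk_eq.2 ⟨1, ?_⟩
  simp only [one_smul, Submonoid.smul_def, Submonoid.coe_mul, Submonoid.coe_one, one_mul, smul_sub,
    smul_add, smul_neg, smul_smul]
  module

variable {A}

theorem locDer_fraction (p : Ideal B) [p.IsPrime] (b : B) (g : p.primeCompl) :
    locDer A p (LocalizedModule.mk b g : LocalizedModule p.primeCompl B) = LocalizedModule.mk
      ((g : B) • KaehlerDifferential.D A B b - b • KaehlerDifferential.D A B (g : B)) (g * g) :=
  locDer_mk A p b g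

variable (A B)

/-- `M = Ω[B⁄A]` as a module over the bundled ring. -/
abbrev OmegaMod : ModuleCat.{u} (CommRingCat.of B) := ModuleCat.of B (Ω[B⁄A])

theorem isLocallyFraction_der {W : Opens (PrimeSpectrum.Top B)}
    (s : (structureSheafInType B B).obj.obj (op W)) :
    (StructureSheaf.isLocallyFraction B (Ω[B⁄A])).pred (fun x : W => locDer A x.1.asIdeal (s.1 x)) := by
  intro x
  obtain ⟨V, hxV, i, b, g, h⟩ := s.2 x
  refine ⟨V, hxV, i, g • KaehlerDifferential.D A B b - b • KaehlerDifferential.D A B g, g * g,
    fun y => ⟨y.1.asIdeal.primeCompl.mul_mem (h y).1 (h y).1, ?_⟩⟩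
  obtain ⟨hy, hy'⟩ := h y
  show locDer A y.1.asIdeal (s.1 (i y)) = _
  exact (congrArg (locDer A y.1.asIdeal) hy').trans (locDer_fraction y.1.asIdeal b ⟨g, hy⟩)

/-- The derivation on sections. -/
def tildeDer (W : (Spec (CommRingCat.of B)).Opens) :
    Γ(Spec (CommRingCat.of B), W) →+ Γ(tilde (OmegaMod A B), W) where
  toFun s := ⟨fun x => locDer A x.1.asIdeal (s.1 x), isLocallyFraction_der A B s⟩
  map_zero' := Subtype.ext (funext fun x => map_zero (locDer A x.1.asIdeal))
  map_add' s t := Subtype.ext (funext fun x => map_add (locDer A x.1.asIdeal) (s.1 x) (t.1 x))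

theorem tildeDer_mul (W : (Spec (CommRingCat.of B)).Opens) (s t : Γ(Spec (CommRingCat.of B), W)) :
    tildeDer A B W (s * t) = s • tildeDer A B W t + t • tildeDer A B W s :=
  Subtype.ext (funext fun x => locDer_mul A x.1.asIdeal (s.1 x) (t.1 x))

theorem tildeDer_map {W W' : (Spec (CommRingCat.of B)).Opens} (h : W' ⟶ W)
    (s : Γ(Spec (CommRingCat.of B), W)) :
    tildeDer A B W' ((Spec (CommRingCat.of B)).presheaf.map h.op s) =
      (tilde (OmegaMod A B)).presheaf.map h.op (tildeDer A B W s) :=
  rfl

theorem tildeDer_algebraMap (W : (Spec (CommRingCat.of B)).Opens) (b : B) :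
    tildeDer A B W ((Spec (CommRingCat.of B)).presheaf.map (homOfLE le_top).op
        ((Scheme.ΓSpecIso (CommRingCat.of B)).inv b)) =
      tilde.toOpen (OmegaMod A B) W (KaehlerDifferential.D A B b) :=
  Subtype.ext (funext fun x => locDer_algebraMap A x.1.asIdeal b)

end Groth.Agent.OmegaLib
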