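import Groth.Agent.OmegaLib.Der
import Groth.Agent.OmegaLib.TildeDer

/-!
# A universal derivation on an affine chart

For a universal derivation `d : O_X → Ω'` and affine opens `U ≤ f⁻¹ W`, the restriction of `Ω'` to
`U` is the quasi-coherent module of `Ω[Γ(X,U)⁄Γ(Y,W)]`, `d` corresponding to the universal derivation.
-/

set_option autoImplicit false
set_option backward.isDefEq.respectTransparency.types false
set_option backward.isDefEq.respectTransparency false
universe u

open CategoryTheory AlgebraicGeometry TopologicalSpace Opposite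

noncomputable section

namespace Groth.Agent.OmegaLib

variable {X Y : Scheme.{u}} {f : X ⟶ Y} {W : Y.Opens} {U : X.Opens}

section
variable (hU : IsAffineOpen U)

theorem image_top_le : hU.fromSpec ''ᵁ ⊤ ≤ U := by
  rw [Scheme.Hom.image_top_eq_opensRange, hU.opensRange_fromSpec]

theorem le_image_top : U ≤ hU.fromSpec ''ᵁ ⊤ := by
  rw [Scheme.Hom.image_top_eq_opensRange, hU.opensRange_fromSpec]

theorem fromSpec_mem (w : Spec Γ(X, U)) : hU.fromSpec w ∈ U :=
  hU.range_fromSpec.le ⟨w, rfl⟩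

theorem top_le_preimage : (⊤ : (Spec Γ(X, U)).Opens) ≤ hU.fromSpec ⁻¹ᵁ U :=
  fun w _ => fromSpec_mem hU w

theorem fromSpec_appLE_self (b : Γ(X, U)) :
    hU.fromSpec.appLE U ⊤ (top_le_preimage hU) b = (Scheme.ΓSpecIso Γ(X, U)).inv b := by
  rw [Scheme.Hom.appLE, CommRingCat.comp_apply, hU.fromSpec_app_self, CommRingCat.comp_apply,
    ← CommRingCat.comp_apply, ← Functor.map_comp,
    show ((eqToHom hU.fromSpec_preimage_self).op ≫ (homOfLE (top_le_preimage hU)).op) = 𝟙 _ from
      Subsingleton.elim _ _, CategoryTheory.Functor.map_id]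
  rfl

theorem appIso_inv_ΓSpecIso_inv (b : Γ(X, U)) :
    (hU.fromSpec.appIso ⊤).inv ((Scheme.ΓSpecIso Γ(X, U)).inv b) =
      X.presheaf.map (homOfLE (image_top_le hU)).op b := by
  apply (ConcreteCategory.bijective_of_isIso (hU.fromSpec.appIso ⊤).hom).1
  rw [Iso.inv_hom_id_apply, Scheme.Hom.appIso_hom', ← fromSpec_appLE_self hU b, ← CommRingCat.comp_apply,
    Scheme.Hom.map_appLE]

end

variable (e : U ≤ f ⁻¹ᵁ W) (hW : IsAffineOpen W) (hU : IsAffineOpen U)

/-- `Ω[Γ(X,U)⁄Γ(Y,W)]~` on `Spec Γ(X,U)`. -/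
def omegaTilde : (Spec Γ(X, U)).Modules :=
  letI := (f.appLE W U e).hom.toAlgebra
  tilde (OmegaMod Γ(Y, W) Γ(X, U))

/-- The derivation into the direct image of `Ω~`. -/
def chartDer : OmegaSh.Der f ((Scheme.Modules.pushforward hU.fromSpec).obj (omegaTilde e)) :=
  letI := (f.appLE W U e).hom.toAlgebra
  { d := fun {V} => (tildeDer Γ(Y, W) Γ(X, U) (hU.fromSpec ⁻¹ᵁ V.unop)).comp
      (hU.fromSpec.app V.unop).hom.toAddMonoidHom
    d_mul := fun {V} a b => by
      show tildeDer _ _ _ (hU.fromSpec.app V.unop (a * b)) = _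
      rw [map_mul, tildeDer_mul]
      rfl
    d_map := fun {V V'} i s => by
      show tildeDer _ _ _ (hU.fromSpec.app V'.unop (X.presheaf.map i s)) = _
      have h := congr($(hU.fromSpec.naturality i) s)
      simp only [CommRingCat.comp_apply] at h
      rw [h]
      rfl
    d_app := fun {V'} c => by
      show tildeDer _ _ _ (hU.fromSpec.app (f ⁻¹ᵁ V'.unop) (f.app V'.unop c)) = 0
      refine Subtype.ext (funext fun w => ?_)
      have hxU : hU.fromSpec w.1 ∈ U := fromSpec_mem hU w.1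
      have hyW : f (hU.fromSpec w.1) ∈ W := e hxU
      have hyV : f (hU.fromSpec w.1) ∈ V'.unop := w.2
      obtain ⟨a, haV, hya⟩ := exists_basicOpen_le' hW hyV hyW
      haveI := hW.isLocalization_basicOpen a
      obtain ⟨⟨a0, m, n, rfl⟩, hc⟩ :=
        IsLocalization.surj (Submonoid.powers a) (Y.presheaf.map (homOfLE haV).op c)
      let P := hU.fromSpec ⁻¹ᵁ (f ⁻¹ᵁ Y.basicOpen a)
      let res : Γ(Y, Y.basicOpen a) →+* Γ(Spec Γ(X, U), P) :=
        (hU.fromSpec.app (f ⁻¹ᵁ Y.basicOpen a)).hom.comp (f.app (Y.basicOpen a)).hom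
      have hzero : ∀ z : Γ(Y, W), tildeDer Γ(Y, W) Γ(X, U) P
          (res (algebraMap Γ(Y, W) Γ(Y, Y.basicOpen a) z)) = 0 := by
        intro z
        have h1 : res (algebraMap Γ(Y, W) Γ(Y, Y.basicOpen a) z) =
            (Spec Γ(X, U)).presheaf.map (homOfLE le_top).op
              ((Scheme.ΓSpecIso Γ(X, U)).inv (f.appLE W U e z)) := by
          show (hU.fromSpec.app _) (f.app _ (Y.presheaf.map (homOfLE (Y.basicOpen_le a)).op z)) = _
          have h2 := congr($(f.naturality (homOfLE (Y.basicOpen_le a)).op) z)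
          simp only [CommRingCat.comp_apply] at h2
          rw [h2]
          have h3 := congr($(hU.fromSpec.naturality
            ((Opens.map f.base).map (homOfLE (Y.basicOpen_le a))).op) (f.app W z))
          simp only [CommRingCat.comp_apply] at h3
          refine h3.trans ?_
          rw [hU.fromSpec_app_of_le _ e]
          simp only [CommRingCat.comp_apply, Scheme.Hom.appLE]
          rw [← CommRingCat.comp_apply, ← CommRingCat.comp_apply, ← Functor.map_comp]
          rfl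
        rw [h1]
        refine (tildeDer_algebraMap Γ(Y, W) Γ(X, U) P (algebraMap Γ(Y, W) Γ(X, U) z)).trans ?_
        rw [Derivation.map_algebraMap, map_zero]
      have hunit : IsUnit (res (algebraMap Γ(Y, W) Γ(Y, Y.basicOpen a) (a ^ n))) := by
        rw [map_pow, map_pow]
        exact ((IsLocalization.Away.algebraMap_isUnit a).map res).pow n
      have hc' := congrArg (fun z => tildeDer Γ(Y, W) Γ(X, U) P (res z)) hc
      simp only [map_mul, hzero] at hc'
      have hc2 := (tildeDer_mul Γ(Y, W) Γ(X, U) P (res (Y.presheaf.map (homOfLE haV).op c))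
        (res (algebraMap Γ(Y, W) Γ(Y, Y.basicOpen a) (a ^ n)))).symm.trans hc'
      rw [hzero, smul_zero, zero_add] at hc2
      have h0 : tildeDer Γ(Y, W) Γ(X, U) P (res (Y.presheaf.map (homOfLE haV).op c)) = 0 :=
        eq_zero_of_isUnit_smul hunit hc2
      have h4 : res (Y.presheaf.map (homOfLE haV).op c) =
          (Spec Γ(X, U)).presheaf.map ((Opens.map hU.fromSpec.base).map
            ((Opens.map f.base).map (homOfLE haV))).op
            (hU.fromSpec.app (f ⁻¹ᵁ V'.unop) (f.app V'.unop c)) := by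
        show (hU.fromSpec.app _) (f.app _ (Y.presheaf.map (homOfLE haV).op c)) = _
        have h2 := congr($(f.naturality (homOfLE haV).op) c)
        simp only [CommRingCat.comp_apply] at h2
        rw [h2]
        have h3 := congr($(hU.fromSpec.naturality ((Opens.map f.base).map (homOfLE haV)).op)
          (f.app V'.unop c))
        simp only [CommRingCat.comp_apply] at h3
        exact h3
      rw [h4] at h0
      exact congrFun (congrArg Subtype.val h0) ⟨w.1, hya⟩ }

theorem chartDer_app (V : X.Opens) (s : Γ(X, V)) :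
    letI := (f.appLE W U e).hom.toAlgebra
    (chartDer e hW hU).app V s = tildeDer Γ(Y, W) Γ(X, U) (hU.fromSpec ⁻¹ᵁ V) (hU.fromSpec.app V s) :=
  rfl

variable {Ω' : X.Modules} {d : OmegaSh.Der f Ω'} (hd : OmegaSh.IsUniversal d)

include hW hd in
/-- Main chart theorem. -/
theorem exists_iso_chart :
    letI := (f.appLE W U e).hom.toAlgebra
    ∃ φ : Ω'.restrict hU.fromSpec ≅ omegaTilde e, ∀ b : Γ(X, U),
      φ.hom.app ⊤ (d.app (hU.fromSpec ''ᵁ ⊤) (X.presheaf.map (homOfLE (image_top_le hU)).op b)) =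
        tilde.toOpen (OmegaMod Γ(Y, W) Γ(X, U)) ⊤ (KaehlerDifferential.D Γ(Y, W) Γ(X, U) b) := by
  letI := (f.appLE W U e).hom.toAlgebra
  let j := hU.fromSpec
  obtain ⟨α, hα, -⟩ := hd _ (chartDer e hW hU)
  let β : Ω'.restrict j ⟶ omegaTilde e :=
    ((Scheme.Modules.restrictAdjunction j).homEquiv _ _).symm α
  have hα' : ∀ (V : X.Opens) (s : Γ(X, V)),
      α.app V (d.app V s) = tildeDer Γ(Y, W) Γ(X, U) (j ⁻¹ᵁ V) (j.app V s) :=
    fun V s => PresheafOfModules.Derivation.congr_d hα s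
  have hEβ : ∀ (V : X.Opens) (z : Γ(Ω', V)),
      α.app V z = β.app (j ⁻¹ᵁ V) (Ω'.presheaf.map (homOfLE (j.image_preimage_le V)).op z) := by
    intro V z
    have h : α = ((Scheme.Modules.restrictAdjunction j).homEquiv _ _) β := (Equiv.apply_symm_apply _ _).symm
    rw [h, Adjunction.homEquiv_unit]
    rfl
  -- values of `β`
  have hβ : ∀ b : Γ(X, U), β.app ⊤ (d.app (j ''ᵁ ⊤) (X.presheaf.map (homOfLE (image_top_le hU)).op b)) =
      tilde.toOpen (OmegaMod Γ(Y, W) Γ(X, U)) ⊤ (KaehlerDifferential.D Γ(Y, W) Γ(X, U) b) := by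
    intro b
    have key : ∀ (P : (Spec Γ(X, U)).Opens) (hP : P ≤ j ⁻¹ᵁ U)
        (hP' : j ''ᵁ P ≤ U),
        β.app P (d.app (j ''ᵁ P) (X.presheaf.map (homOfLE hP').op b)) =
          tildeDer Γ(Y, W) Γ(X, U) P ((Spec Γ(X, U)).presheaf.map (homOfLE hP).op (j.app U b)) := by
      intro P hP hP'
      rw [tildeDer_map, ← hα' U b, hEβ, app_map d hP']
      have hn := congr($(β.mapPresheaf.naturality (homOfLE hP).op)
        (Ω'.presheaf.map (homOfLE (j.image_preimage_le U)).op (d.app U b)))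
      refine Eq.trans ?_ hn
      show β.app P _ = β.app P _
      congr 1
      show _ = Ω'.presheaf.map _ (Ω'.presheaf.map _ _)
      rw [← ConcreteCategory.comp_apply, ← Functor.map_comp]
      rfl
    refine (key ⊤ (top_le_preimage hU) (image_top_le hU)).trans ?_
    refine Eq.trans (congrArg _ ?_) (tildeDer_algebraMap Γ(Y, W) Γ(X, U) ⊤ b)
    refine (fromSpec_appLE_self hU b).trans ?_
    rw [show (homOfLE (le_top : (⊤ : (Spec Γ(X, U)).Opens) ≤ ⊤)) = 𝟙 _ from rfl]
    simp
    rfl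
  -- the inverse
  let N := (modulesSpecToSheaf.obj (Ω'.restrict j)).presheaf.obj (op ⊤)
  letI : Module Γ(Y, W) N := Module.compHom N (algebraMap Γ(Y, W) Γ(X, U))
  haveI : IsScalarTower Γ(Y, W) Γ(X, U) N :=
    IsScalarTower.of_algebraMap_smul fun _ _ => rfl
  have hsmul : ∀ (b : Γ(X, U)) (z : Γ(Ω', j ''ᵁ ⊤)),
      (b • (show N from z) : N) = (show N from X.presheaf.map (homOfLE (image_top_le hU)).op b • z) := by
    intro b z
    rw [← appIso_inv_ΓSpecIso_inv hU b]
    show (j.appIso ⊤).inv ((Spec Γ(X, U)).presheaf.map (homOfLE (le_top : (⊤ : (Spec Γ(X, U)).Opens) ≤ ⊤)).op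
      ((Scheme.ΓSpecIso Γ(X, U)).inv b)) • z = _
    rw [show (homOfLE (le_top : (⊤ : (Spec Γ(X, U)).Opens) ≤ ⊤)) = 𝟙 _ from rfl, op_id,
      CategoryTheory.Functor.map_id]
    rfl
  let δ₀ : Γ(X, U) →+ N :=
    (d.app (j ''ᵁ ⊤)).comp (X.presheaf.map (homOfLE (image_top_le hU)).op).hom.toAddMonoidHom
  have hδmul : ∀ a b : Γ(X, U), δ₀ (a * b) = a • δ₀ b + b • δ₀ a := by
    intro a b
    rw [show δ₀ (a * b) = _ from congrArg (d.app _) (map_mul (X.presheaf.map (homOfLE (image_top_le hU)).op).hom a b)]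
    refine (app_mul d _ _ _).trans ?_
    rw [hsmul, hsmul]
    rfl
  have hδA : ∀ r : Γ(Y, W), δ₀ (algebraMap Γ(Y, W) Γ(X, U) r) = 0 := by
    intro r
    show d.app _ (X.presheaf.map _ (f.appLE W U e r)) = 0
    rw [← CommRingCat.comp_apply, Scheme.Hom.appLE_map]
    exact app_appLE d _ r
  let δ : Derivation Γ(Y, W) Γ(X, U) N := Derivation.mk'
    { toFun := δ₀
      map_add' := map_add δ₀
      map_smul' := fun r b => by
        rw [Algebra.smul_def, hδmul, hδA, smul_zero, add_zero, RingHom.id_apply]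
        exact algebraMap_smul Γ(X, U) r (δ₀ b) }
    hδmul
  let lin : ModuleCat.of Γ(X, U) (Ω[Γ(X, U)⁄Γ(Y, W)]) ⟶ N :=
    @ModuleCat.ofHom _ _ (Ω[Γ(X, U)⁄Γ(Y, W)]) N _ _ N.isAddCommGroup N.isModule δ.liftKaehlerDifferential
  let E := (tilde.adjunction (R := Γ(X, U))).homEquiv (ModuleCat.of Γ(X, U) (Ω[Γ(X, U)⁄Γ(Y, W)])) (Ω'.restrict j)
  let γ : omegaTilde e ⟶ Ω'.restrict j := E.symm lin
  have hγ : ∀ b : Γ(X, U),
      γ.app ⊤ (tilde.toOpen (OmegaMod Γ(Y, W) Γ(X, U)) ⊤ (KaehlerDifferential.D Γ(Y, W) Γ(X, U) b)) =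
        d.app (j ''ᵁ ⊤) (X.presheaf.map (homOfLE (image_top_le hU)).op b) := by
    intro b
    have h : E γ = lin := Equiv.apply_symm_apply _ _
    have h2 := congr($(h) (KaehlerDifferential.D Γ(Y, W) Γ(X, U) b))
    rw [Adjunction.homEquiv_unit] at h2
    refine Eq.trans ?_ (h2.trans (δ.liftKaehlerDifferential_comp_D b))
    rfl
  have hβγ : β ≫ γ = 𝟙 _ := by
    apply ((Scheme.Modules.restrictAdjunction j).homEquiv _ _).injective
    refine hom_ext_of_isUniversal hd fun V s => ?_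
    refine congrArg (fun D : OmegaSh.Der f _ => D.app V s) (der_pushforward_ext j hU (fromSpec_mem hU)
      (d.postcomp (((Scheme.Modules.restrictAdjunction j).homEquiv _ _) (β ≫ γ)).val)
      (d.postcomp (((Scheme.Modules.restrictAdjunction j).homEquiv _ _) (𝟙 _)).val) fun b => ?_)
    rw [Adjunction.homEquiv_unit, Adjunction.homEquiv_unit]
    show (β ≫ γ).app (j ⁻¹ᵁ U) (Ω'.presheaf.map (homOfLE (j.image_preimage_le U)).op (d.app U b)) =
      Ω'.presheaf.map (homOfLE (j.image_preimage_le U)).op (d.app U b)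
    rw [← app_map d]
    have key : ∀ (P : (Spec Γ(X, U)).Opens), P = ⊤ → ∀ (hP' : j ''ᵁ P ≤ U),
        (β ≫ γ).app P (d.app (j ''ᵁ P) (X.presheaf.map (homOfLE hP').op b)) =
          d.app (j ''ᵁ P) (X.presheaf.map (homOfLE hP').op b) := by
      rintro P rfl hP'
      rw [Scheme.Modules.Hom.comp_app, ConcreteCategory.comp_apply]
      exact (congrArg (γ.app ⊤) (hβ b)).trans (hγ b)
    exact key _ hU.fromSpec_preimage_self _
  have hγβ : γ ≫ β = 𝟙 _ := by
    apply (tilde.adjunction.homEquiv (OmegaMod Γ(Y, W) Γ(X, U)) (omegaTilde e)).injective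
    refine ModuleCat.hom_ext ?_
    rw [Adjunction.homEquiv_unit, Adjunction.homEquiv_unit]
    refine LinearMap.ext_on (KaehlerDifferential.span_range_derivation Γ(Y, W) Γ(X, U)) ?_
    rintro _ ⟨b, rfl⟩
    show β.app ⊤ (γ.app ⊤ (tilde.toOpen _ ⊤ (KaehlerDifferential.D Γ(Y, W) Γ(X, U) b))) =
      tilde.toOpen _ ⊤ (KaehlerDifferential.D Γ(Y, W) Γ(X, U) b)
    rw [hγ]
    exact hβ b
  exact ⟨⟨β, γ, hβγ, hγβ⟩, hβ⟩

end Groth.Agent.OmegaLib
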